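import Mathlib

set_option autoImplicit false

/-!
# General tensor / base change lemmas for the gr-flatness descent (helper56)

* `lTensor_injective_of_flat_coker`: `0 → A → B → C → 0` exact with `C` flat, then `M ⊗ A → M ⊗ B`
  is injective (proof after helper35's `KF.lTensor_injective_of_flat_coker`).
* `flat_of_exact`, `flat_ker_of_flat`.
* `isBaseChange_quot`: base change passes to quotients by corresponding submodules.
* `ker_eq_span_of_isBaseChange`: right exactness in `IsBaseChange` form.
* pushout transfer lemmas.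
-/

namespace Groth.Agent.H56.GrFlat

universe u

open TensorProduct LinearMap

section FlatCoker

variable {R : Type u} [CommRing R]

/-- For a short exact sequence `0 → A → B → C → 0` with `C` flat, `M ⊗ A → M ⊗ B` is injective
for every module `M`. -/
theorem lTensor_injective_of_flat_coker (M : Type u) [AddCommGroup M] [Module R M]
    {A B C : Type u} [AddCommGroup A] [Module R A] [AddCommGroup B] [Module R B]
    [AddCommGroup C] [Module R C] [Module.Flat R C]
    (ι : A →ₗ[R] B) (π : B →ₗ[R] C) (hι : Function.Injective ι) (hex : Function.Exact ι π)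
    (hπ : Function.Surjective π) : Function.Injective (LinearMap.lTensor M ι) := by
  let F := M →₀ R
  let p : F →ₗ[R] M := Finsupp.linearCombination R id
  have hp : Function.Surjective p := Finsupp.linearCombination_id_surjective R M
  let K := LinearMap.ker p
  let j : K →ₗ[R] F := K.subtype
  have hj : Function.Injective j := K.injective_subtype
  have hjp : Function.Exact j p := LinearMap.exact_subtype_ker_map p
  have hFinj : Function.Injective (lTensor F ι) :=
    Module.Flat.lTensor_preserves_injective_linearMap ι hι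
  have hCinj : Function.Injective (rTensor C j) :=
    Module.Flat.rTensor_preserves_injective_linearMap j hj
  rw [injective_iff_map_eq_zero]
  intro x hx
  obtain ⟨y, rfl⟩ := rTensor_surjective A hp x
  have h1 : (rTensor B p) ((lTensor F ι) y) = 0 := by
    rw [← hx, ← LinearMap.comp_apply, ← LinearMap.comp_apply, rTensor_comp_lTensor,
      lTensor_comp_rTensor]
  obtain ⟨z, hz⟩ := (rTensor_exact (R := R) (M := K) (N := F) (P := M) B (f := j) (g := p)
    hjp hp _).1 h1
  have h2 : (rTensor C j) ((lTensor K π) z) = 0 := by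
    rw [← LinearMap.comp_apply, rTensor_comp_lTensor, ← lTensor_comp_rTensor,
      LinearMap.comp_apply, hz, ← LinearMap.comp_apply, ← lTensor_comp, hex.linearMap_comp_eq_zero]
    simp
  have h3 : (lTensor K π) z = 0 := hCinj (by rw [h2, map_zero])
  obtain ⟨w, hw⟩ := (lTensor_exact K hex hπ _).1 h3
  have h4 : (rTensor A j) w = y := hFinj (by
    rw [← LinearMap.comp_apply, lTensor_comp_rTensor, ← rTensor_comp_lTensor,
      LinearMap.comp_apply, hw, hz])
  rw [← h4, ← LinearMap.comp_apply, ← rTensor_comp, hjp.linearMap_comp_eq_zero]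
  simp

variable {M' M M'' : Type u} [AddCommGroup M'] [AddCommGroup M]
  [AddCommGroup M''] [Module R M'] [Module R M] [Module R M'']

/-- an extension of flat modules is flat -/
theorem flat_of_exact (f : M' →ₗ[R] M) (g : M →ₗ[R] M'') (hf : Function.Injective f)
    (hg : Function.Surjective g) (H : Function.Exact f g) [Module.Flat R M']
    [Module.Flat R M''] : Module.Flat R M := by
  rw [Module.Flat.iff_rTensor_preserves_injective_linearMap]
  intro N₁ N₂ _ _ _ _ i hi
  rw [injective_iff_map_eq_zero]
  intro z hz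
  have h1 : (i.rTensor M'') (g.lTensor N₁ z) = 0 := by
    have : (i.rTensor M'') (g.lTensor N₁ z) = g.lTensor N₂ (i.rTensor M z) := by
      rw [← LinearMap.comp_apply, ← LinearMap.comp_apply, LinearMap.rTensor_comp_lTensor,
        LinearMap.lTensor_comp_rTensor]
    rw [this, hz, map_zero]
  have h2 : g.lTensor N₁ z = 0 :=
    Module.Flat.rTensor_preserves_injective_linearMap i hi (by rw [h1, map_zero])
  obtain ⟨w, rfl⟩ := (lTensor_exact N₁ H hg z).mp h2
  have h3 : f.lTensor N₂ (i.rTensor M' w) = 0 := by
    rw [← LinearMap.comp_apply, LinearMap.lTensor_comp_rTensor, ← LinearMap.rTensor_comp_lTensor,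
      LinearMap.comp_apply, hz]
  have h4 : i.rTensor M' w = 0 :=
    lTensor_injective_of_flat_coker N₂ f g hf H hg (by rw [h3, map_zero])
  have h5 : w = 0 := Module.Flat.rTensor_preserves_injective_linearMap i hi (by rw [h4, map_zero])
  rw [h5, map_zero]

/-- the kernel of a surjection between flat modules is flat -/
theorem flat_of_exact_left (f : M' →ₗ[R] M) (g : M →ₗ[R] M'') (hf : Function.Injective f)
    (hg : Function.Surjective g) (H : Function.Exact f g) [Module.Flat R M]
    [Module.Flat R M''] : Module.Flat R M' := by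
  rw [Module.Flat.iff_rTensor_preserves_injective_linearMap]
  intro N₁ N₂ _ _ _ _ i hi
  rw [injective_iff_map_eq_zero]
  intro z hz
  have h1 : (i.rTensor M) (f.lTensor N₁ z) = 0 := by
    rw [← LinearMap.comp_apply, LinearMap.rTensor_comp_lTensor, ← LinearMap.lTensor_comp_rTensor,
      LinearMap.comp_apply, hz, map_zero]
  have h2 : f.lTensor N₁ z = 0 :=
    Module.Flat.rTensor_preserves_injective_linearMap i hi (by rw [h1, map_zero])
  exact lTensor_injective_of_flat_coker N₁ f g hf H hg (by rw [h2, map_zero])

end FlatCoker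

section QuotBC

variable {R S : Type u} [CommRing R] [CommRing S] [Algebra R S]
  {M N : Type u} [AddCommGroup M] [Module R M] [AddCommGroup N] [Module R N] [Module S N]
  [IsScalarTower R S N]

/-- the map induced on quotients by `f`, modulo `X` and the `S`-span of `f(X)` -/
noncomputable def quotMap (f : M →ₗ[R] N) (X : Submodule R M) :
    M ⧸ X →ₗ[R] N ⧸ Submodule.span S (f '' (X : Set M)) :=
  X.liftQ (((Submodule.span S (f '' (X : Set M))).mkQ.restrictScalars R).comp f) (by
    intro x hx
    rw [LinearMap.mem_ker, LinearMap.comp_apply, LinearMap.restrictScalars_apply,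
      Submodule.mkQ_apply, Submodule.Quotient.mk_eq_zero]
    exact Submodule.subset_span ⟨x, hx, rfl⟩)

@[simp] theorem quotMap_mk (f : M →ₗ[R] N) (X : Submodule R M) (m : M) :
    quotMap (S := S) f X (Submodule.Quotient.mk m) = Submodule.Quotient.mk (f m) := rfl

/-- **Base change passes to quotients.** -/
theorem isBaseChange_quotMap {f : M →ₗ[R] N} (hf : IsBaseChange S f) (X : Submodule R M) :
    IsBaseChange S (quotMap (S := S) f X) := by
  set X' := Submodule.span S (f '' (X : Set M)) with hX'
  let fwd : S ⊗[R] (M ⧸ X) →ₗ[S] N ⧸ X' := LinearMap.liftBaseChange S (quotMap (S := S) f X)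
  let g₀ : M →ₗ[R] S ⊗[R] (M ⧸ X) := (TensorProduct.mk R S (M ⧸ X) 1).comp X.mkQ
  let g₁ : N →ₗ[S] S ⊗[R] (M ⧸ X) := hf.lift g₀
  have hker : X' ≤ LinearMap.ker g₁ := by
    rw [hX', Submodule.span_le]
    rintro _ ⟨x, hx, rfl⟩
    change g₁ (f x) = 0
    rw [hf.lift_eq]
    change (1 : S) ⊗ₜ[R] (Submodule.Quotient.mk x : M ⧸ X) = 0
    rw [(Submodule.Quotient.mk_eq_zero X).mpr hx, TensorProduct.tmul_zero]
  let bwd : N ⧸ X' →ₗ[S] S ⊗[R] (M ⧸ X) := X'.liftQ g₁ hker
  have h1 : bwd ∘ₗ fwd = LinearMap.id := by
    apply TensorProduct.AlgebraTensorModule.ext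
    intro s x
    obtain ⟨m, rfl⟩ := Submodule.Quotient.mk_surjective X x
    simp only [LinearMap.comp_apply, LinearMap.id_apply, fwd, LinearMap.liftBaseChange_tmul,
      quotMap_mk, map_smul]
    change s • bwd (Submodule.Quotient.mk (f m)) = _
    change s • g₁ (f m) = _
    rw [hf.lift_eq]
    change s • ((1 : S) ⊗ₜ[R] (Submodule.Quotient.mk m : M ⧸ X)) = _
    rw [TensorProduct.smul_tmul', smul_eq_mul, mul_one]
  have h2 : fwd ∘ₗ bwd = LinearMap.id := by
    apply Submodule.linearMap_qext
    apply hf.algHom_ext'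
    ext m
    simp only [LinearMap.comp_apply, LinearMap.restrictScalars_apply, Submodule.mkQ_apply,
      LinearMap.id_apply]
    change fwd (g₁ (f m)) = _
    rw [hf.lift_eq]
    change fwd ((1 : S) ⊗ₜ[R] (Submodule.Quotient.mk m : M ⧸ X)) = _
    simp only [fwd, LinearMap.liftBaseChange_tmul, one_smul]
    rfl
  refine IsBaseChange.of_equiv (LinearEquiv.ofLinearMap fwd bwd h2 h1) ?_
  intro x
  simp [fwd]

end QuotBC

section KerBC

variable {R S : Type u} [CommRing R] [CommRing S] [Algebra R S]
  {Y G : Type u} [AddCommGroup Y] [Module R Y] [AddCommGroup G] [Module R G]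
  {Y' G' : Type u} [AddCommGroup Y'] [Module R Y'] [Module S Y'] [IsScalarTower R S Y']
  [AddCommGroup G'] [Module R G'] [Module S G'] [IsScalarTower R S G']

/-- **Right exactness in `IsBaseChange` form**: if `σ : Y → G` is surjective and `σ' : Y' → G'`
is its base change, then `ker σ'` is the span of the image of `ker σ`. -/
theorem ker_eq_span_of_isBaseChange (σ : Y →ₗ[R] G) (hσ : Function.Surjective σ)
    {y : Y →ₗ[R] Y'} (hy : IsBaseChange S y) {g : G →ₗ[R] G'} (hg : IsBaseChange S g)
    (σ' : Y' →ₗ[S] G') (hcomm : ∀ x, σ' (y x) = g (σ x)) :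
    LinearMap.ker σ' = Submodule.span S (y '' (LinearMap.ker σ : Set Y)) := by
  set X := LinearMap.ker σ with hX
  set X' := Submodule.span S (y '' (X : Set Y)) with hX'
  have hle : X' ≤ LinearMap.ker σ' := by
    rw [hX', Submodule.span_le]
    rintro _ ⟨x, hx, rfl⟩
    change σ' (y x) = 0
    rw [hcomm, LinearMap.mem_ker.mp hx, map_zero]
  refine le_antisymm ?_ hle
  -- the induced map on the quotient
  let σbar' : Y' ⧸ X' →ₗ[S] G' := X'.liftQ σ' hle
  let e : (Y ⧸ X) ≃ₗ[R] G := LinearMap.quotKerEquivOfSurjective σ hσ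
  have hybar : IsBaseChange S (quotMap (S := S) y X) := isBaseChange_quotMap hy X
  have hge : IsBaseChange S (g ∘ₗ e.toLinearMap) := IsBaseChange.comp_equiv e g hg
  let τ : G' →ₗ[S] Y' ⧸ X' := hge.lift (quotMap (S := S) y X)
  have hτ : τ ∘ₗ σbar' = LinearMap.id := by
    apply hybar.algHom_ext'
    ext m
    simp only [LinearMap.comp_apply, LinearMap.restrictScalars_apply, Submodule.mkQ_apply,
      LinearMap.id_comp, LinearMap.id_apply, quotMap_mk]
    change τ (σ' (y m)) = _
    rw [hcomm]
    have : g (σ m) = (g ∘ₗ e.toLinearMap) (Submodule.Quotient.mk m) := rfl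
    rw [this, hge.lift_eq]
    rfl
  intro x hx
  have h1 : σbar' (Submodule.Quotient.mk x) = 0 := by
    change σ' x = 0
    exact hx
  have h2 : (Submodule.Quotient.mk x : Y' ⧸ X') = 0 := by
    have := LinearMap.congr_fun hτ (Submodule.Quotient.mk x)
    rw [LinearMap.comp_apply, h1, map_zero] at this
    exact this.symm
  exact (Submodule.Quotient.mk_eq_zero X').mp h2

end KerBC

section Pushout

variable (C D S S' : Type u) [CommRing C] [CommRing D] [CommRing S] [CommRing S']
  [Algebra C D] [Algebra C S] [Algebra C S'] [Algebra D S'] [Algebra S S']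
  [IsScalarTower C D S'] [IsScalarTower C S S'] [Algebra.IsPushout C D S S']

variable {N N' : Type u} [AddCommGroup N] [Module C N] [Module S N] [IsScalarTower C S N]
  [AddCommGroup N'] [Module S N'] [Module S' N'] [IsScalarTower S S' N']
  [Module D N'] [IsScalarTower D S' N']

/-- a base change along the pushout `S → S'` of `C → D` is a base change along `C → D` -/
noncomputable def pushoutEquiv {f : N →ₗ[S] N'} (hf : IsBaseChange S' f) : D ⊗[C] N ≃ₗ[D] N' :=
  (Algebra.IsPushout.cancelBaseChange C D S S' N).symm ≪≫ₗ (hf.equiv.restrictScalars D)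

@[simp] theorem pushoutEquiv_tmul {f : N →ₗ[S] N'} (hf : IsBaseChange S' f) (d : D) (n : N) :
    pushoutEquiv C D S S' hf (d ⊗ₜ n) = d • f n := by
  simp only [pushoutEquiv, LinearEquiv.trans_apply, Algebra.IsPushout.cancelBaseChange_symm_tmul,
    LinearEquiv.restrictScalars_apply, IsBaseChange.equiv_tmul]
  rw [algebraMap_smul]

/-- flatness transfers along such a base change -/
theorem flat_of_isBaseChange_pushout {f : N →ₗ[S] N'} (hf : IsBaseChange S' f)
    [Module.Flat C N] : Module.Flat D N' :=
  Module.Flat.of_linearEquiv (pushoutEquiv C D S S' hf).symm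

/-- if `N` is `C`-flat and `C → D` is injective then `N → N'` is injective -/
theorem injective_of_isBaseChange_pushout {f : N →ₗ[S] N'} (hf : IsBaseChange S' f)
    [Module.Flat C N] (hinj : Function.Injective (algebraMap C D)) : Function.Injective f := by
  have h1 : Function.Injective (LinearMap.rTensor N (Algebra.linearMap C D)) :=
    Module.Flat.rTensor_preserves_injective_linearMap _ hinj
  have h2 : ∀ n : N, f n = pushoutEquiv C D S S' hf
      (LinearMap.rTensor N (Algebra.linearMap C D) ((TensorProduct.lid C N).symm n)) := by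
    intro n
    simp
  intro a b hab
  rw [h2, h2] at hab
  exact (TensorProduct.lid C N).symm.injective (h1 ((pushoutEquiv C D S S' hf).injective hab))

variable {N₁ N₂ N₃ : Type u} [AddCommGroup N₁] [Module C N₁] [Module S N₁] [IsScalarTower C S N₁]
  [AddCommGroup N₂] [Module C N₂] [Module S N₂] [IsScalarTower C S N₂]
  [AddCommGroup N₃] [Module C N₃] [Module S N₃] [IsScalarTower C S N₃]
  {N₁' N₂' : Type u}
  [AddCommGroup N₁'] [Module S N₁'] [Module S' N₁'] [IsScalarTower S S' N₁']
  [Module D N₁'] [IsScalarTower D S' N₁']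
  [AddCommGroup N₂'] [Module S N₂'] [Module S' N₂'] [IsScalarTower S S' N₂']
  [Module D N₂'] [IsScalarTower D S' N₂']

include D in
/-- **Flat cokernel ⇒ the base-changed inclusion stays injective.** -/
theorem injective_of_flat_coker_pushout (ι : N₁ →ₗ[S] N₂) (π : N₂ →ₗ[S] N₃)
    (hι : Function.Injective ι) (hex : Function.Exact ι π) (hπ : Function.Surjective π)
    [Module.Flat C N₃]
    {f₁ : N₁ →ₗ[S] N₁'} (h₁ : IsBaseChange S' f₁) {f₂ : N₂ →ₗ[S] N₂'} (h₂ : IsBaseChange S' f₂)
    (ι' : N₁' →ₗ[S'] N₂') (hcomm : ∀ x, ι' (f₁ x) = f₂ (ι x)) : Function.Injective ι' := by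
  have hinj : Function.Injective (LinearMap.lTensor D (ι.restrictScalars C)) :=
    lTensor_injective_of_flat_coker D (ι.restrictScalars C) (π.restrictScalars C) hι hex hπ
  have hsq : ∀ t : D ⊗[C] N₁, ι' (pushoutEquiv C D S S' h₁ t) =
      pushoutEquiv C D S S' h₂ (LinearMap.lTensor D (ι.restrictScalars C) t) := by
    intro t
    induction t using TensorProduct.induction_on with
    | zero => simp
    | tmul d n =>
      rw [pushoutEquiv_tmul, LinearMap.lTensor_tmul, pushoutEquiv_tmul,
        LinearMap.restrictScalars_apply, ← hcomm]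
      rw [← algebraMap_smul S' d (f₁ n), map_smul, algebraMap_smul]
    | add a b ha hb => simp only [map_add, ha, hb]
  intro a b hab
  obtain ⟨a', rfl⟩ := (pushoutEquiv C D S S' h₁).surjective a
  obtain ⟨b', rfl⟩ := (pushoutEquiv C D S S' h₁).surjective b
  rw [hsq, hsq] at hab
  rw [hinj ((pushoutEquiv C D S S' h₂).injective hab)]

end Pushout

end Groth.Agent.H56.GrFlat
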