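import Mathlib

set_option autoImplicit false

/-!
# Graded modules with commuting degree-one operators (helper56)

A family `V k` of `R`-modules with commuting operators `T a : V k → V (k+1)` (`a : Fin s`) such
that `V (k+1)` is spanned by the images of the `T a` and `V 0` is finite.  Then `⨁ V k` is a finite
module over the commutative finite type `R`-algebra `E` generated by the total operators inside
`End_R (⨁ V k)`.  Consequence (`exists_stable`): for `R` Noetherian, every family of submodules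
`W k ⊆ V k` stable under the operators is eventually generated by them.
-/

namespace Groth.Agent.H56.GrFlat

universe u

open DirectSum

/-- a graded module generated in degree `0` by commuting degree-one operators -/
structure GrMod (R : Type u) [CommRing R] (s : ℕ) where
  /-- graded pieces -/
  V : ℕ → Type u
  [grp : ∀ k, AddCommGroup (V k)]
  [mod : ∀ k, Module R (V k)]
  /-- operators -/
  T : Fin s → ∀ k, V k →ₗ[R] V (k + 1)
  comm : ∀ a b k v, T a (k + 1) (T b k v) = T b (k + 1) (T a k v)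
  gen : ∀ k, ⨆ a, LinearMap.range (T a k) = ⊤
  fin0 : Module.Finite R (V 0)

attribute [instance] GrMod.grp GrMod.mod

namespace GrMod

variable {R : Type u} [CommRing R] {s : ℕ} (𝒢 : GrMod R s)

/-- the total module -/
abbrev Tot : Type u := ⨁ k, 𝒢.V k

/-- the total operators -/
noncomputable def Ttot (a : Fin s) : 𝒢.Tot →ₗ[R] 𝒢.Tot :=
  DirectSum.toModule R ℕ 𝒢.Tot (fun k => (DirectSum.lof R ℕ 𝒢.V (k + 1)).comp (𝒢.T a k))

@[simp] theorem Ttot_lof (a : Fin s) (k : ℕ) (v : 𝒢.V k) :
    𝒢.Ttot a (DirectSum.lof R ℕ 𝒢.V k v) = DirectSum.lof R ℕ 𝒢.V (k + 1) (𝒢.T a k v) := by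
  simp [Ttot]

theorem Ttot_comm (a b : Fin s) : 𝒢.Ttot a * 𝒢.Ttot b = 𝒢.Ttot b * 𝒢.Ttot a := by
  apply DirectSum.linearMap_ext
  intro k
  ext v
  simp only [LinearMap.comp_apply, Module.End.mul_apply, Ttot_lof]
  rw [𝒢.comm]

theorem component_succ_Ttot (a : Fin s) (k : ℕ) (x : 𝒢.Tot) :
    (𝒢.Ttot a x) (k + 1) = 𝒢.T a k (x k) := by
  classical
  have : (DirectSum.component R ℕ 𝒢.V (k + 1)).comp (𝒢.Ttot a) =
      (𝒢.T a k).comp (DirectSum.component R ℕ 𝒢.V k) := by
    apply DirectSum.linearMap_ext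
    intro j
    ext v
    simp only [LinearMap.comp_apply, Ttot_lof]
    by_cases h : j = k
    · subst h
      rw [DirectSum.component.lof_self, DirectSum.component.lof_self]
    · rw [DirectSum.component.of, DirectSum.component.of, dif_neg (by omega), dif_neg h, map_zero]
  exact LinearMap.congr_fun this x

theorem component_zero_Ttot (a : Fin s) (x : 𝒢.Tot) : (𝒢.Ttot a x) 0 = 0 := by
  classical
  have : (DirectSum.component R ℕ 𝒢.V 0).comp (𝒢.Ttot a) = 0 := by
    apply DirectSum.linearMap_ext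
    intro j
    ext v
    simp only [LinearMap.comp_apply, Ttot_lof, LinearMap.zero_comp, LinearMap.zero_apply]
    rw [DirectSum.component.of, dif_neg (by omega)]
  exact LinearMap.congr_fun this x

/-- the algebra generated by the operators -/
noncomputable abbrev E : Subalgebra R (Module.End R 𝒢.Tot) :=
  Algebra.adjoin R (Set.range 𝒢.Ttot)

theorem E_comm : ∀ x ∈ Set.range 𝒢.Ttot, ∀ y ∈ Set.range 𝒢.Ttot, x * y = y * x := by
  rintro _ ⟨a, rfl⟩ _ ⟨b, rfl⟩
  exact 𝒢.Ttot_comm a b

open scoped IsMulCommutative in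
noncomputable instance instCommRingE : CommRing 𝒢.E :=
  have : IsMulCommutative (Algebra.adjoin R (Set.range 𝒢.Ttot)) :=
    Algebra.isMulCommutative_adjoin R 𝒢.E_comm
  (inferInstance : CommRing (Algebra.adjoin R (Set.range 𝒢.Ttot)))

theorem E_smul_def (e : 𝒢.E) (x : 𝒢.Tot) : e • x = (e : Module.End R 𝒢.Tot) x := rfl

theorem algebraMap_E_smul (r : R) (x : 𝒢.Tot) : algebraMap R 𝒢.E r • x = r • x := by
  rw [E_smul_def]
  rfl

/-- the operator `Ttot a` as an element of `E` -/
noncomputable def tE (a : Fin s) : 𝒢.E := ⟨𝒢.Ttot a, Algebra.subset_adjoin ⟨a, rfl⟩⟩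

theorem tE_smul (a : Fin s) (x : 𝒢.Tot) : 𝒢.tE a • x = 𝒢.Ttot a x := rfl

instance instFiniteTypeE : Algebra.FiniteType R 𝒢.E := by
  classical
  refine (Subalgebra.fg_iff_finiteType 𝒢.E).mp ⟨Finset.univ.image 𝒢.Ttot, ?_⟩
  rw [Finset.coe_image, Finset.coe_univ, Set.image_univ]

/-- an `R`-submodule stable under the operators is stable under `E` -/
theorem E_apply_mem (N : Submodule R 𝒢.Tot) (hN : ∀ a, ∀ x ∈ N, 𝒢.Ttot a x ∈ N)
    (e : 𝒢.E) {x : 𝒢.Tot} (hx : x ∈ N) : e • x ∈ N := by
  obtain ⟨e, he⟩ := e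
  change e x ∈ N
  induction he using Algebra.adjoin_induction generalizing x with
  | mem e he =>
    obtain ⟨a, rfl⟩ := he
    exact hN a x hx
  | algebraMap r =>
    change r • x ∈ N
    exact N.smul_mem r hx
  | add e e' _ _ h h' => exact N.add_mem (h hx) (h' hx)
  | mul e e' _ _ h h' => exact h (h' hx)

/-- promote a stable `R`-submodule to an `E`-submodule -/
noncomputable def toESubmodule (N : Submodule R 𝒢.Tot) (hN : ∀ a, ∀ x ∈ N, 𝒢.Ttot a x ∈ N) :
    Submodule 𝒢.E 𝒢.Tot where
  carrier := N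
  add_mem' := N.add_mem
  zero_mem' := N.zero_mem
  smul_mem' e _ hx := 𝒢.E_apply_mem N hN e hx

theorem mem_toESubmodule (N : Submodule R 𝒢.Tot) (hN : ∀ a, ∀ x ∈ N, 𝒢.Ttot a x ∈ N)
    (x : 𝒢.Tot) : x ∈ 𝒢.toESubmodule N hN ↔ x ∈ N := Iff.rfl

/-- the total module is finite over `E` -/
instance finite_Tot : Module.Finite 𝒢.E 𝒢.Tot := by
  classical
  have := 𝒢.fin0
  obtain ⟨gens, hgens⟩ := (Module.Finite.fg_top : (⊤ : Submodule R (𝒢.V 0)).FG)
  refine ⟨⟨gens.image (DirectSum.lof R ℕ 𝒢.V 0), ?_⟩⟩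
  set N : Submodule 𝒢.E 𝒢.Tot :=
    Submodule.span 𝒢.E ((gens.image (DirectSum.lof R ℕ 𝒢.V 0) : Finset 𝒢.Tot) : Set 𝒢.Tot) with hN
  have key : ∀ k (v : 𝒢.V k), DirectSum.lof R ℕ 𝒢.V k v ∈ N := by
    intro k
    induction k with
    | zero =>
      intro v
      have hv : v ∈ Submodule.span R (gens : Set (𝒢.V 0)) := hgens ▸ Submodule.mem_top
      induction hv using Submodule.span_induction with
      | mem v hv =>
        exact Submodule.subset_span (Finset.mem_coe.mpr (Finset.mem_image_of_mem _ hv))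
      | zero => rw [map_zero]; exact N.zero_mem
      | add a b _ _ ha hb => rw [map_add]; exact N.add_mem ha hb
      | smul r a _ ha =>
        rw [map_smul, ← algebraMap_E_smul]
        exact N.smul_mem _ ha
    | succ k ih =>
      intro v
      have hv : v ∈ ⨆ a, LinearMap.range (𝒢.T a k) := 𝒢.gen k ▸ Submodule.mem_top
      induction hv using Submodule.iSup_induction' with
      | mem a v hv =>
        obtain ⟨w, rfl⟩ := hv
        rw [← Ttot_lof, ← tE_smul]
        exact N.smul_mem _ (ih w)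
      | zero => rw [map_zero]; exact N.zero_mem
      | add a b _ _ ha hb => rw [map_add]; exact N.add_mem ha hb
  rw [eq_top_iff]
  rintro x -
  induction x using DirectSum.induction_on with
  | zero => exact N.zero_mem
  | of k v => exact key k v
  | add a b ha hb => exact N.add_mem ha hb

instance instNoethE [IsNoetherianRing R] : IsNoetherianRing 𝒢.E :=
  Algebra.FiniteType.isNoetherianRing R 𝒢.E

/-- **Uniform generation.** Over a Noetherian ring, a family of submodules stable under the
operators is eventually generated by them. -/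
theorem exists_stable [IsNoetherianRing R] (W : ∀ k, Submodule R (𝒢.V k))
    (hW : ∀ a k, (W k).map (𝒢.T a k) ≤ W (k + 1)) :
    ∃ d, ∀ k, d ≤ k → W (k + 1) = ⨆ a, (W k).map (𝒢.T a k) := by
  classical
  -- the total submodule
  let WR : Submodule R 𝒢.Tot :=
    { carrier := {x | ∀ k, x k ∈ W k}
      add_mem' := fun hx hy k => by
        rw [DirectSum.add_apply]; exact (W k).add_mem (hx k) (hy k)
      zero_mem' := fun k => by rw [DirectSum.zero_apply]; exact (W k).zero_mem
      smul_mem' := fun r x hx k => by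
        rw [DirectSum.smul_apply]; exact (W k).smul_mem r (hx k) }
  have hWR : ∀ a, ∀ x ∈ WR, 𝒢.Ttot a x ∈ WR := by
    intro a x hx k
    cases k with
    | zero => rw [component_zero_Ttot]; exact (W 0).zero_mem
    | succ k =>
      rw [component_succ_Ttot]
      exact hW a k ⟨x k, hx k, rfl⟩
  let WE := 𝒢.toESubmodule WR hWR
  have : IsNoetherian 𝒢.E 𝒢.Tot := isNoetherian_of_isNoetherianRing_of_finite 𝒢.E 𝒢.Tot
  obtain ⟨gens, hgens⟩ := IsNoetherian.noetherian WE
  -- degree bound
  obtain ⟨d, hd⟩ : ∃ d : ℕ, ∀ x ∈ gens, ∀ k, d < k → x k = 0 := by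
    refine ⟨gens.sup (fun x => (DFinsupp.support x).sup id), ?_⟩
    intro x hx k hk
    by_contra hne
    have h1 : k ∈ DFinsupp.support x := DFinsupp.mem_support_iff.mpr hne
    have h2 : k ≤ (DFinsupp.support x).sup id := Finset.le_sup (f := id) h1
    have h3 : (DFinsupp.support x).sup id ≤ gens.sup (fun x => (DFinsupp.support x).sup id) :=
      Finset.le_sup (f := fun x => (DFinsupp.support x).sup id) hx
    omega
  refine ⟨d, fun k hk => le_antisymm ?_ (iSup_le fun a => hW a k)⟩
  -- the refined submodule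
  let U : ∀ j, Submodule R (𝒢.V (j + 1)) := fun j => ⨆ a, (W j).map (𝒢.T a j)
  let PR : Submodule R 𝒢.Tot :=
    { carrier := {x | x ∈ WR ∧ ∀ j, d ≤ j → x (j + 1) ∈ U j}
      add_mem' := fun hx hy => ⟨WR.add_mem hx.1 hy.1, fun j hj => by
        rw [DirectSum.add_apply]; exact (U j).add_mem (hx.2 j hj) (hy.2 j hj)⟩
      zero_mem' := ⟨WR.zero_mem, fun j _ => by rw [DirectSum.zero_apply]; exact (U j).zero_mem⟩
      smul_mem' := fun r x hx => ⟨WR.smul_mem r hx.1, fun j hj => by
        rw [DirectSum.smul_apply]; exact (U j).smul_mem r (hx.2 j hj)⟩ }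
  have hPR : ∀ a, ∀ x ∈ PR, 𝒢.Ttot a x ∈ PR := by
    intro a x hx
    refine ⟨hWR a x hx.1, fun j _ => ?_⟩
    rw [component_succ_Ttot]
    exact Submodule.mem_iSup_of_mem a ⟨x j, hx.1 j, rfl⟩
  let PE := 𝒢.toESubmodule PR hPR
  have hle : WE ≤ PE := by
    rw [← hgens, Submodule.span_le]
    intro x hx
    have hxW : x ∈ WE := hgens ▸ Submodule.subset_span hx
    refine ⟨hxW, fun j hj => ?_⟩
    rw [hd x hx (j + 1) (by omega)]
    exact (U j).zero_mem
  intro w hw
  have hmem : DirectSum.lof R ℕ 𝒢.V (k + 1) w ∈ WE := by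
    intro j
    by_cases h : j = k + 1
    · subst h
      rw [DirectSum.lof_apply]
      exact hw
    · rw [DirectSum.lof_eq_of, DirectSum.of_eq_of_ne _ _ _ h]
      exact (W j).zero_mem
  have := (hle hmem).2 k hk
  rwa [DirectSum.lof_apply] at this

end GrMod

end Groth.Agent.H56.GrFlat
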