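import Mathlib
import Groth.Agent.H56.GrFlat.TensorLemmas
import Groth.Agent.H56.GrFlat.Total

set_option autoImplicit false

/-!
# Graded families with operators and their base change (helper56)

`V k` a family of `S`-modules with operators `T a k : V k → V (k+1)`; `V' k` a family of
`S'`-modules with operators and comparison maps `g k : V k → V' k`.  We study the kernels
`Wk` of `S' ⊗[S] V k → V' k` and the stability property `Stab` (the kernels are eventually generated
by the operators), and how these behave in a tower `S → S' → S''`.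
-/

namespace Groth.Agent.H56.GrFlat

universe u

open TensorProduct

section TwoRings

variable {S : Type u} (S' : Type u) [CommRing S] [CommRing S'] [Algebra S S'] {s : ℕ}
  {V : ℕ → Type u} [∀ k, AddCommGroup (V k)] [∀ k, Module S (V k)]
  {V' : ℕ → Type u} [∀ k, AddCommGroup (V' k)] [∀ k, Module S (V' k)] [∀ k, Module S' (V' k)]
  [∀ k, IsScalarTower S S' (V' k)]
  (T : Fin s → ∀ k, V k →ₗ[S] V (k + 1)) (T' : Fin s → ∀ k, V' k →ₗ[S'] V' (k + 1))
  (g : ∀ k, V k →ₗ[S] V' k)

/-- the comparison map `S' ⊗ V k → V' k` -/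
noncomputable def tau (k : ℕ) : S' ⊗[S] V k →ₗ[S'] V' k := LinearMap.liftBaseChange S' (g k)

theorem tau_tmul (k : ℕ) (c : S') (v : V k) : tau S' g k (c ⊗ₜ v) = c • g k v := by
  change LinearMap.liftBaseChange S' (g k) (c ⊗ₜ[S] v) = _
  rw [LinearMap.liftBaseChange_tmul]

/-- the base-changed operators -/
noncomputable def That (a : Fin s) (k : ℕ) : S' ⊗[S] V k →ₗ[S'] S' ⊗[S] V (k + 1) :=
  (T a k).baseChange S'

theorem That_tmul (a : Fin s) (k : ℕ) (c : S') (v : V k) :
    That S' T a k (c ⊗ₜ v) = c ⊗ₜ T a k v := by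
  change (T a k).baseChange S' (c ⊗ₜ[S] v) = _
  rw [LinearMap.baseChange_tmul]

/-- the kernel of the comparison map -/
noncomputable def Wk (k : ℕ) : Submodule S' (S' ⊗[S] V k) := LinearMap.ker (tau S' g k)

variable {T T' g}

theorem tau_That (hT : ∀ a k v, T' a k (g k v) = g (k + 1) (T a k v)) (a : Fin s) (k : ℕ)
    (x : S' ⊗[S] V k) : tau S' g (k + 1) (That S' T a k x) = T' a k (tau S' g k x) := by
  induction x using TensorProduct.induction_on with
  | zero => simp
  | tmul c v => rw [That_tmul, tau_tmul, tau_tmul, map_smul, hT]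
  | add x y hx hy => simp only [map_add, hx, hy]

theorem That_Wk_le (hT : ∀ a k v, T' a k (g k v) = g (k + 1) (T a k v)) (a : Fin s) (k : ℕ) :
    (Wk S' g k).map (That S' T a k) ≤ Wk S' g (k + 1) := by
  rintro _ ⟨x, hx, rfl⟩
  change tau S' g (k + 1) _ = 0
  rw [tau_That S' hT, show tau S' g k x = 0 from hx, map_zero]

theorem tau_surjective {k : ℕ} (hspan : Submodule.span S' (Set.range (g k)) = ⊤) :
    Function.Surjective (tau S' g k) := by
  rw [← LinearMap.range_eq_top, eq_top_iff, ← hspan, Submodule.span_le]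
  rintro _ ⟨v, rfl⟩
  exact ⟨1 ⊗ₜ v, by rw [tau_tmul, one_smul]⟩

variable (T g)

/-- the kernels are generated by the operators from degree `k` to `k+1` -/
def Stab (k : ℕ) : Prop := Wk S' g (k + 1) = ⨆ a, (Wk S' g k).map (That S' T a k)

variable {T g}

theorem iSup_range_That {k : ℕ} (hgen : ⨆ a, LinearMap.range (T a k) = ⊤) :
    ⨆ a, LinearMap.range (That S' T a k) = ⊤ := by
  rw [eq_top_iff]
  rintro x -
  induction x using TensorProduct.induction_on with
  | zero => exact Submodule.zero_mem _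
  | tmul c v =>
    have hv : v ∈ ⨆ a, LinearMap.range (T a k) := hgen ▸ Submodule.mem_top
    induction hv using Submodule.iSup_induction' with
    | mem a v hv =>
      obtain ⟨w, rfl⟩ := hv
      exact Submodule.mem_iSup_of_mem a ⟨c ⊗ₜ w, That_tmul S' T a k c w⟩
    | zero => rw [TensorProduct.tmul_zero]; exact Submodule.zero_mem _
    | add v w _ _ hv hw => rw [TensorProduct.tmul_add]; exact Submodule.add_mem _ hv hw
  | add x y hx hy => exact Submodule.add_mem _ hx hy

/-- **Stability over a Noetherian ring.** -/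
theorem exists_stab [IsNoetherianRing S'] [Module.Finite S (V 0)]
    (hcomm : ∀ a b k v, T a (k + 1) (T b k v) = T b (k + 1) (T a k v))
    (hgen : ∀ k, ⨆ a, LinearMap.range (T a k) = ⊤)
    (hT : ∀ a k v, T' a k (g k v) = g (k + 1) (T a k v)) :
    ∃ d, ∀ k, d ≤ k → Stab S' T g k := by
  let 𝒢 : GrMod S' s :=
    { V := fun k => S' ⊗[S] V k
      T := That S' T
      comm := by
        intro a b k x
        induction x using TensorProduct.induction_on with
        | zero => simp
        | tmul c v => rw [That_tmul, That_tmul, That_tmul, That_tmul, hcomm]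
        | add x y hx hy => simp only [map_add, hx, hy]
      gen := fun k => iSup_range_That S' (hgen k)
      fin0 := inferInstance }
  exact 𝒢.exists_stable (Wk S' g) (fun a k => That_Wk_le S' hT a k)

end TwoRings

section Gcomp

variable {S S' S'' : Type u} [CommRing S] [CommRing S'] [CommRing S''] [Algebra S S']
  {V : ℕ → Type u} [∀ k, AddCommGroup (V k)] [∀ k, Module S (V k)]
  {V' : ℕ → Type u} [∀ k, AddCommGroup (V' k)] [∀ k, Module S (V' k)] [∀ k, Module S' (V' k)]
  [∀ k, IsScalarTower S S' (V' k)]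
  {V'' : ℕ → Type u} [∀ k, AddCommGroup (V'' k)] [∀ k, Module S (V'' k)] [∀ k, Module S' (V'' k)]
  [∀ k, IsScalarTower S S' (V'' k)]

/-- the composite comparison maps -/
def gcomp (g₁ : ∀ k, V k →ₗ[S] V' k) (g₂ : ∀ k, V' k →ₗ[S'] V'' k) (k : ℕ) : V k →ₗ[S] V'' k :=
  ((g₂ k).restrictScalars S).comp (g₁ k)

end Gcomp

section ThreeRings

variable {S : Type u} (S' S'' : Type u) [CommRing S] [CommRing S'] [CommRing S''] [Algebra S S']
  [Algebra S' S''] [Algebra S S''] [IsScalarTower S S' S''] {s : ℕ}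
  {V : ℕ → Type u} [∀ k, AddCommGroup (V k)] [∀ k, Module S (V k)]
  {V' : ℕ → Type u} [∀ k, AddCommGroup (V' k)] [∀ k, Module S (V' k)] [∀ k, Module S' (V' k)]
  [∀ k, IsScalarTower S S' (V' k)]
  {V'' : ℕ → Type u} [∀ k, AddCommGroup (V'' k)] [∀ k, Module S (V'' k)] [∀ k, Module S' (V'' k)]
  [∀ k, Module S'' (V'' k)] [∀ k, IsScalarTower S S' (V'' k)] [∀ k, IsScalarTower S' S'' (V'' k)]
  [∀ k, IsScalarTower S S'' (V'' k)]
  (T : Fin s → ∀ k, V k →ₗ[S] V (k + 1)) (T' : Fin s → ∀ k, V' k →ₗ[S'] V' (k + 1))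
  (g₁ : ∀ k, V k →ₗ[S] V' k) (g₂ : ∀ k, V' k →ₗ[S'] V'' k)

variable (S) in
/-- the change of rings map `S' ⊗ V k → S'' ⊗ V k` -/
noncomputable def ghat (V : ℕ → Type u) [∀ k, AddCommGroup (V k)] [∀ k, Module S (V k)] (k : ℕ) :
    S' ⊗[S] V k →ₗ[S'] S'' ⊗[S] V k :=
  LinearMap.liftBaseChange S' (TensorProduct.mk S S'' (V k) 1)

theorem ghat_tmul (k : ℕ) (c : S') (v : V k) :
    ghat S S' S'' V k (c ⊗ₜ v) = algebraMap S' S'' c ⊗ₜ v := by
  change LinearMap.liftBaseChange S' (TensorProduct.mk S S'' (V k) 1) (c ⊗ₜ[S] v) = _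
  rw [LinearMap.liftBaseChange_tmul, TensorProduct.mk_apply, TensorProduct.smul_tmul',
    Algebra.smul_def, mul_one]

theorem isBaseChange_ghat (k : ℕ) : IsBaseChange S'' (ghat S S' S'' V k) := by
  refine IsBaseChange.of_comp (TensorProduct.isBaseChange S (V k) S') ?_
  have : ((ghat S S' S'' V k : S' ⊗[S] V k →ₗ[S'] S'' ⊗[S] V k).restrictScalars S) ∘ₗ
      TensorProduct.mk S S' (V k) 1 = TensorProduct.mk S S'' (V k) 1 := by
    ext v
    simp only [LinearMap.comp_apply, LinearMap.restrictScalars_apply, TensorProduct.mk_apply]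
    rw [ghat_tmul, map_one]
  rw [this]
  exact TensorProduct.isBaseChange S (V k) S''

variable {g₁ g₂}

theorem tau_ghat (k : ℕ) (x : S' ⊗[S] V k) :
    tau S'' (gcomp g₁ g₂) k (ghat S S' S'' V k x) = g₂ k (tau S' g₁ k x) := by
  induction x using TensorProduct.induction_on with
  | zero => simp
  | tmul c v =>
    rw [ghat_tmul, tau_tmul, tau_tmul, map_smul, algebraMap_smul]
    rfl
  | add x y hx hy => simp only [map_add, hx, hy]

variable {T}

theorem That_ghat (a : Fin s) (k : ℕ) (x : S' ⊗[S] V k) :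
    That S'' T a k (ghat S S' S'' V k x) = ghat S S' S'' V (k + 1) (That S' T a k x) := by
  induction x using TensorProduct.induction_on with
  | zero => simp
  | tmul c v => rw [ghat_tmul, That_tmul, That_tmul, ghat_tmul]
  | add x y hx hy => simp only [map_add, hx, hy]

/-- the kernel over `S''` is spanned by the kernel over `S'` when `g₂` is a base change -/
theorem Wk_eq_span {k : ℕ} (hspan : Submodule.span S' (Set.range (g₁ k)) = ⊤)
    (hBC : IsBaseChange S'' (g₂ k)) :
    Wk S'' (gcomp g₁ g₂) k =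
      Submodule.span S'' (ghat S S' S'' V k '' (Wk S' g₁ k : Set (S' ⊗[S] V k))) :=
  ker_eq_span_of_isBaseChange (tau S' g₁ k) (tau_surjective S' hspan)
    (isBaseChange_ghat S' S'' k) hBC (tau S'' (gcomp g₁ g₂) k) (tau_ghat S' S'' k)

theorem span_image_iSup_map (k : ℕ) (N : Submodule S' (S' ⊗[S] V k)) :
    Submodule.span S'' (ghat S S' S'' V (k + 1) ''
      ((⨆ a, N.map (That S' T a k) : Submodule S' (S' ⊗[S] V (k + 1))) : Set _)) =
    ⨆ a, (Submodule.span S'' (ghat S S' S'' V k '' (N : Set _))).map (That S'' T a k) := by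
  apply le_antisymm
  · rw [Submodule.span_le]
    rintro _ ⟨y, hy, rfl⟩
    induction hy using Submodule.iSup_induction' with
    | mem a y hy =>
      obtain ⟨x, hx, rfl⟩ := hy
      rw [← That_ghat]
      exact Submodule.mem_iSup_of_mem a ⟨_, Submodule.subset_span ⟨x, hx, rfl⟩, rfl⟩
    | zero => rw [map_zero]; exact Submodule.zero_mem _
    | add y z _ _ hy hz => rw [map_add]; exact Submodule.add_mem _ hy hz
  · refine iSup_le fun a => ?_
    rw [Submodule.map_span, Submodule.span_le]
    rintro _ ⟨_, ⟨x, hx, rfl⟩, rfl⟩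
    rw [That_ghat]
    exact Submodule.subset_span
      ⟨_, Submodule.mem_iSup_of_mem a ⟨x, hx, rfl⟩, rfl⟩

/-- stability passes to a base change -/
theorem stab_of_stab {k : ℕ} (h : Stab S' T g₁ k)
    (hspan : ∀ k, Submodule.span S' (Set.range (g₁ k)) = ⊤)
    (hBC : IsBaseChange S'' (g₂ k)) (hBC' : IsBaseChange S'' (g₂ (k + 1))) :
    Stab S'' T (gcomp g₁ g₂) k := by
  unfold Stab at h ⊢
  rw [Wk_eq_span S' S'' (hspan (k + 1)) hBC', Wk_eq_span S' S'' (hspan k) hBC, h,
    span_image_iSup_map]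

/-- stability over the big ring controls the images of the kernels -/
theorem span_eq_of_stab {k : ℕ} (h : Stab S'' T (gcomp g₁ g₂) k)
    (hspan : ∀ k, Submodule.span S' (Set.range (g₁ k)) = ⊤)
    (hBC : IsBaseChange S'' (g₂ k)) (hBC' : IsBaseChange S'' (g₂ (k + 1))) :
    Submodule.span S'' (ghat S S' S'' V (k + 1) '' (Wk S' g₁ (k + 1) : Set _)) =
      Submodule.span S'' (ghat S S' S'' V (k + 1) ''
        ((⨆ a, (Wk S' g₁ k).map (That S' T a k) : Submodule S' (S' ⊗[S] V (k + 1))) : Set _)) := by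
  unfold Stab at h
  rw [Wk_eq_span S' S'' (hspan (k + 1)) hBC', Wk_eq_span S' S'' (hspan k) hBC] at h
  rw [h, span_image_iSup_map]

variable (g₁) in
/-- the comparison `S'' ⊗[S] V k → S'' ⊗[S'] V' k` -/
noncomputable def rho (k : ℕ) : S'' ⊗[S] V k →ₗ[S''] S'' ⊗[S'] V' k :=
  LinearMap.liftBaseChange S'' (((TensorProduct.mk S' S'' (V' k) 1).restrictScalars S).comp (g₁ k))

theorem rho_tmul (k : ℕ) (c : S'') (v : V k) :
    rho S' S'' g₁ k (c ⊗ₜ v) = c ⊗ₜ g₁ k v := by
  change LinearMap.liftBaseChange S'' _ (c ⊗ₜ[S] v) = _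
  rw [LinearMap.liftBaseChange_tmul]
  simp only [LinearMap.comp_apply, LinearMap.restrictScalars_apply, TensorProduct.mk_apply]
  rw [TensorProduct.smul_tmul', smul_eq_mul, mul_one]

theorem rho_surjective {k : ℕ} (hspan : Submodule.span S' (Set.range (g₁ k)) = ⊤) :
    Function.Surjective (rho S' S'' g₁ k) := by
  rw [← LinearMap.range_eq_top, eq_top_iff]
  rintro x -
  induction x using TensorProduct.induction_on with
  | zero => exact Submodule.zero_mem _
  | tmul c w =>
    have hw : w ∈ Submodule.span S' (Set.range (g₁ k)) := hspan ▸ Submodule.mem_top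
    have key : ∀ w ∈ Submodule.span S' (Set.range (g₁ k)), ∀ c : S'',
        c ⊗ₜ[S'] w ∈ LinearMap.range (rho S' S'' g₁ k) := by
      intro w hw
      induction hw using Submodule.span_induction with
      | mem w hw =>
        intro c
        obtain ⟨v, rfl⟩ := hw
        exact ⟨c ⊗ₜ v, rho_tmul S' S'' k c v⟩
      | zero => intro c; rw [TensorProduct.tmul_zero]; exact Submodule.zero_mem _
      | add v w _ _ hv hw =>
        intro c; rw [TensorProduct.tmul_add]; exact Submodule.add_mem _ (hv c) (hw c)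
      | smul r w _ hw =>
        intro c
        rw [← TensorProduct.smul_tmul]
        exact hw (r • c)
    exact key w hw c
  | add x y hx hy => exact Submodule.add_mem _ hx hy

theorem tau_rho (k : ℕ) (x : S'' ⊗[S] V k) :
    tau S'' g₂ k (rho S' S'' g₁ k x) = tau S'' (gcomp g₁ g₂) k x := by
  induction x using TensorProduct.induction_on with
  | zero => simp
  | tmul c v => rw [rho_tmul, tau_tmul, tau_tmul]; rfl
  | add x y hx hy => simp only [map_add, hx, hy]

variable {T'} in
theorem That_rho (hT : ∀ a k v, T' a k (g₁ k v) = g₁ (k + 1) (T a k v)) (a : Fin s) (k : ℕ)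
    (x : S'' ⊗[S] V k) :
    That S'' T' a k (rho S' S'' g₁ k x) = rho S' S'' g₁ (k + 1) (That S'' T a k x) := by
  induction x using TensorProduct.induction_on with
  | zero => simp
  | tmul c v => rw [rho_tmul, That_tmul, That_tmul, rho_tmul, hT]
  | add x y hx hy => simp only [map_add, hx, hy]

/-- **Propagation of the base change property** along a stable range. -/
theorem tau_injective_succ {k : ℕ} (h : Stab S'' T (gcomp g₁ g₂) k)
    (hT : ∀ a k v, T' a k (g₁ k v) = g₁ (k + 1) (T a k v))
    (hspan : ∀ k, Submodule.span S' (Set.range (g₁ k)) = ⊤)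
    (hinj : Function.Injective (tau S'' g₂ k)) :
    Function.Injective (tau S'' g₂ (k + 1)) := by
  rw [← LinearMap.ker_eq_bot, eq_bot_iff]
  intro x hx
  obtain ⟨y, rfl⟩ := rho_surjective S' S'' (hspan (k + 1)) x
  have hy : y ∈ Wk S'' (gcomp g₁ g₂) (k + 1) := by
    change tau S'' (gcomp g₁ g₂) (k + 1) y = 0
    rw [← tau_rho]
    exact hx
  unfold Stab at h
  rw [h] at hy
  rw [Submodule.mem_bot]
  clear hx
  induction hy using Submodule.iSup_induction' with
  | mem a y hy =>
    obtain ⟨z, hz, rfl⟩ := hy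
    rw [← That_rho S' S'' hT]
    have : rho S' S'' g₁ k z = 0 := by
      apply hinj
      rw [tau_rho, map_zero]
      exact hz
    rw [this, map_zero]
  | zero => rw [map_zero]
  | add y z _ _ hy hz => rw [map_add, hy, hz, add_zero]

end ThreeRings

end Groth.Agent.H56.GrFlat
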