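import Mathlib
import Groth.Agent.H56.GrFlat.Family

set_option autoImplicit false
set_option maxSynthPendingDepth 3

/-!
# The fibrewise criterion for stability (helper56)

In a tower `S → S' → S''` where `S''` is the pushout of `S'` along `C' → S' ⧸ q`, stability of the
kernels over `S''` together with flatness of `V' (k+1)` over `C'` gives `N = q N` for the defect
module `N = W_{k+1} / Σ T̂_a W_k` over `S'`.  If this holds at all maximal ideals and `N` is finite,
then `N = 0`, i.e. stability holds over `S'`.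
-/

namespace Groth.Agent.H56.GrFlat

universe u

open TensorProduct

section Descend

variable {C' S' : Type u} [CommRing C'] [CommRing S'] [Algebra C' S']

/-- if `(S' ⧸ q) ⊗[C'] N = 0` then `N = q N` -/
theorem smul_top_eq_top_of_subsingleton_tensor (q : Ideal S') (N : Type u) [AddCommGroup N]
    [Module S' N] [Module C' N] [IsScalarTower C' S' N] [Subsingleton ((S' ⧸ q) ⊗[C'] N)] :
    q • (⊤ : Submodule S' N) = ⊤ := by
  have h1 : Subsingleton ((S' ⧸ q) ⊗[S'] N) :=
    (TensorProduct.mapOfCompatibleSMul_surjective S' C' C' (S' ⧸ q) N).subsingleton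
  have h2 : Subsingleton (N ⧸ (q • (⊤ : Submodule S' N))) :=
    (TensorProduct.quotTensorEquivQuotSMul N q).symm.toEquiv.subsingleton
  exact Submodule.Quotient.subsingleton_iff.mp h2

/-- a finite module `N` with `N = q N` for all maximal ideals `q` is zero -/
theorem subsingleton_of_forall_maximal_smul_top (N : Type u) [AddCommGroup N] [Module S' N]
    [Module.Finite S' N]
    (h : ∀ q : Ideal S', q.IsMaximal → q • (⊤ : Submodule S' N) = ⊤) : Subsingleton N := by
  by_contra hN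
  have hann : Module.annihilator S' N ≠ ⊤ := by
    intro htop
    apply hN
    refine ⟨fun a b => ?_⟩
    have h1 : (1 : S') ∈ Module.annihilator S' N := htop ▸ Submodule.mem_top
    have ha := Module.mem_annihilator.mp h1 a
    have hb := Module.mem_annihilator.mp h1 b
    rw [one_smul] at ha hb
    rw [ha, hb]
  obtain ⟨q, hq, hle⟩ := Ideal.exists_le_maximal _ hann
  obtain ⟨r, hr, hr0⟩ := Submodule.exists_sub_one_mem_and_smul_eq_zero_of_fg_of_le_smul q
    (⊤ : Submodule S' N) Module.Finite.fg_top (h q hq).ge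
  have hrq : r ∈ q := hle (Module.mem_annihilator.mpr fun n => hr0 n Submodule.mem_top)
  apply hq.ne_top
  rw [Ideal.eq_top_iff_one]
  have : (1 : S') = r - (r - 1) := by ring
  rw [this]
  exact q.sub_mem hrq hr

end Descend

section FibLocal

variable {S : Type u} (S' S'' : Type u) [CommRing S] [CommRing S'] [CommRing S''] [Algebra S S']
  [Algebra S' S''] [Algebra S S''] [IsScalarTower S S' S''] {s : ℕ}
  {V : ℕ → Type u} [∀ k, AddCommGroup (V k)] [∀ k, Module S (V k)]
  {V' : ℕ → Type u} [∀ k, AddCommGroup (V' k)] [∀ k, Module S (V' k)] [∀ k, Module S' (V' k)]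
  [∀ k, IsScalarTower S S' (V' k)]
  {V'' : ℕ → Type u} [∀ k, AddCommGroup (V'' k)] [∀ k, Module S (V'' k)] [∀ k, Module S' (V'' k)]
  [∀ k, Module S'' (V'' k)] [∀ k, IsScalarTower S S' (V'' k)] [∀ k, IsScalarTower S' S'' (V'' k)]
  [∀ k, IsScalarTower S S'' (V'' k)]
  {T : Fin s → ∀ k, V k →ₗ[S] V (k + 1)} {T' : Fin s → ∀ k, V' k →ₗ[S'] V' (k + 1)}
  {g₁ : ∀ k, V k →ₗ[S] V' k} {g₂ : ∀ k, V' k →ₗ[S'] V'' k}
  (C' C'' : Type u) [CommRing C'] [CommRing C''] [Algebra C' C''] [Algebra C' S'] [Algebra C' S'']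
  [Algebra C'' S''] [IsScalarTower C' C'' S''] [IsScalarTower C' S' S'']
  [Algebra.IsPushout C' C'' S' S'']
  [∀ k, Module C' (V' k)] [∀ k, IsScalarTower C' S' (V' k)]

/-- the part of the kernel generated by the operators -/
noncomputable def Uk (T : Fin s → ∀ k, V k →ₗ[S] V (k + 1)) (g₁ : ∀ k, V k →ₗ[S] V' k) (k : ℕ) :
    Submodule S' (S' ⊗[S] V (k + 1)) := ⨆ a, (Wk S' g₁ k).map (That S' T a k)

theorem Uk_le (hT : ∀ a k v, T' a k (g₁ k v) = g₁ (k + 1) (T a k v)) (k : ℕ) :
    Uk S' T g₁ k ≤ Wk S' g₁ (k + 1) :=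
  iSup_le fun a => That_Wk_le S' hT a k

/-- the defect module `W_{k+1} / Σ T̂_a W_k` -/
abbrev Defect (T : Fin s → ∀ k, V k →ₗ[S] V (k + 1)) (g₁ : ∀ k, V k →ₗ[S] V' k) (k : ℕ) :
    Type u :=
  ↥(Wk S' g₁ (k + 1)) ⧸ (Uk S' T g₁ k).comap (Wk S' g₁ (k + 1)).subtype

theorem stab_iff_subsingleton_defect (hT : ∀ a k v, T' a k (g₁ k v) = g₁ (k + 1) (T a k v))
    (k : ℕ) : Stab S' T g₁ k ↔ Subsingleton (Defect S' T g₁ k) := by
  rw [Submodule.Quotient.subsingleton_iff]
  unfold Stab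
  constructor
  · intro h
    rw [eq_top_iff]
    rintro ⟨w, hw⟩ -
    change w ∈ Uk S' T g₁ k
    rw [h] at hw
    exact hw
  · intro h
    apply le_antisymm
    · intro w hw
      have : (⟨w, hw⟩ : Wk S' g₁ (k + 1)) ∈
          (Uk S' T g₁ k).comap (Wk S' g₁ (k + 1)).subtype := h ▸ Submodule.mem_top
      exact this
    · exact Uk_le S' hT k

include C' C'' in
/-- the base change of the defect module to `S''` vanishes -/
theorem subsingleton_tensor_defect {k : ℕ} (h : Stab S'' T (gcomp g₁ g₂) k)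
    (hT : ∀ a k v, T' a k (g₁ k v) = g₁ (k + 1) (T a k v))
    (hspan : ∀ k, Submodule.span S' (Set.range (g₁ k)) = ⊤)
    (hBC : IsBaseChange S'' (g₂ k)) (hBC' : IsBaseChange S'' (g₂ (k + 1)))
    [Module.Flat C' (V' (k + 1))] :
    Subsingleton (S'' ⊗[S'] Defect S' T g₁ k) := by
  set W := Wk S' g₁ (k + 1) with hW
  set U := Uk S' T g₁ k with hU
  have hUW : U ≤ W := Uk_le S' hT k
  set U' : Submodule S' W := U.comap W.subtype with hU'
  let ĝ : S' ⊗[S] V (k + 1) →ₗ[S'] S'' ⊗[S] V (k + 1) := ghat S S' S'' V (k + 1)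
  let ι' : S'' ⊗[S'] W →ₗ[S''] S'' ⊗[S] V (k + 1) :=
    LinearMap.liftBaseChange S'' (ĝ ∘ₗ W.subtype)
  have hι' : ∀ (c : S'') (w : W), ι' (c ⊗ₜ w) = c • ĝ (w : S' ⊗[S] V (k + 1)) := by
    intro c w
    change LinearMap.liftBaseChange S'' (ĝ ∘ₗ W.subtype) (c ⊗ₜ[S'] w) = _
    rw [LinearMap.liftBaseChange_tmul]
    rfl
  have hinj : Function.Injective ι' := by
    refine injective_of_flat_coker_pushout C' C'' S' S'' W.subtype (tau S' g₁ (k + 1))
      W.injective_subtype ?_ (tau_surjective S' (hspan (k + 1)))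
      (TensorProduct.isBaseChange S' W S'') (isBaseChange_ghat S' S'' (k + 1)) ι' ?_
    · rw [LinearMap.exact_iff, Submodule.range_subtype]
      rfl
    · intro w
      rw [TensorProduct.mk_apply, hι', one_smul]
      rfl
  have hrange1 : LinearMap.range ι' =
      Submodule.span S'' (ĝ '' (W : Set (S' ⊗[S] V (k + 1)))) := by
    rw [LinearMap.range_liftBaseChange]
    congr 1
    ext x
    constructor
    · rintro ⟨w, rfl⟩
      exact ⟨w, w.2, rfl⟩
    · rintro ⟨w, hw, rfl⟩
      exact ⟨⟨w, hw⟩, rfl⟩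
  let j : S'' ⊗[S'] U' →ₗ[S'] S'' ⊗[S'] W := LinearMap.lTensor S'' U'.subtype
  have hsurj : Function.Surjective j := by
    intro t
    have h1 : ι' t ∈ Submodule.span S'' (ĝ '' (W : Set (S' ⊗[S] V (k + 1)))) := by
      rw [← hrange1]
      exact ⟨t, rfl⟩
    have h1' : ι' t ∈ Submodule.span S'' (ĝ '' (U : Set (S' ⊗[S] V (k + 1)))) :=
      (span_eq_of_stab S' S'' h hspan hBC hBC').le h1
    have h2 : ∀ y ∈ Submodule.span S'' (ĝ '' (U : Set (S' ⊗[S] V (k + 1)))),
        ∃ u : S'' ⊗[S'] U', ι' (j u) = y := by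
      intro y hy
      induction hy using Submodule.span_induction with
      | mem y hy =>
        obtain ⟨u, hu, rfl⟩ := hy
        refine ⟨1 ⊗ₜ ⟨⟨u, hUW hu⟩, hu⟩, ?_⟩
        change ι' (LinearMap.lTensor S'' U'.subtype (1 ⊗ₜ _)) = _
        rw [LinearMap.lTensor_tmul, hι', one_smul]
        rfl
      | zero => exact ⟨0, by rw [map_zero, map_zero]⟩
      | add y z _ _ hy hz =>
        obtain ⟨u, rfl⟩ := hy
        obtain ⟨v, rfl⟩ := hz
        exact ⟨u + v, by rw [map_add, map_add]⟩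
      | smul c y _ hy =>
        obtain ⟨u, rfl⟩ := hy
        refine ⟨c • u, ?_⟩
        have : j (c • u) = c • j u := by
          change LinearMap.lTensor S'' U'.subtype (c • u) = c • LinearMap.lTensor S'' U'.subtype u
          rw [← LinearMap.baseChange_eq_ltensor, map_smul]
        rw [this, map_smul]
    obtain ⟨u, hu⟩ := h2 _ h1'
    exact ⟨u, hinj hu⟩
  have hrange : LinearMap.range
      (TensorProduct.map (LinearMap.id : S'' →ₗ[S'] S'') U'.subtype) = ⊤ :=
    LinearMap.range_eq_top.mpr hsurj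
  have h3 : Subsingleton ((S'' ⊗[S'] W) ⧸ LinearMap.range
      (TensorProduct.map (LinearMap.id : S'' →ₗ[S'] S'') U'.subtype)) :=
    Submodule.Quotient.subsingleton_iff.mpr hrange
  exact (TensorProduct.tensorQuotientEquiv S'' U').toEquiv.subsingleton

end FibLocal

section FibGlobal

variable {S : Type u} (S' S'' : Type u) [CommRing S] [CommRing S'] [CommRing S''] [Algebra S S']
  [Algebra S' S''] [Algebra S S''] [IsScalarTower S S' S''] {s : ℕ}
  {V : ℕ → Type u} [∀ k, AddCommGroup (V k)] [∀ k, Module S (V k)]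
  {V' : ℕ → Type u} [∀ k, AddCommGroup (V' k)] [∀ k, Module S (V' k)] [∀ k, Module S' (V' k)]
  [∀ k, IsScalarTower S S' (V' k)]
  {V'' : ℕ → Type u} [∀ k, AddCommGroup (V'' k)] [∀ k, Module S (V'' k)] [∀ k, Module S' (V'' k)]
  [∀ k, Module S'' (V'' k)] [∀ k, IsScalarTower S S' (V'' k)] [∀ k, IsScalarTower S' S'' (V'' k)]
  [∀ k, IsScalarTower S S'' (V'' k)]
  {T : Fin s → ∀ k, V k →ₗ[S] V (k + 1)} {T' : Fin s → ∀ k, V' k →ₗ[S'] V' (k + 1)}
  {g₁ : ∀ k, V k →ₗ[S] V' k} {g₂ : ∀ k, V' k →ₗ[S'] V'' k}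
  (C' C'' : Type u) [CommRing C'] [CommRing C''] [Algebra C' C''] [Algebra C' S'] [Algebra C' S'']
  [Algebra C'' S''] [IsScalarTower C' C'' S''] [IsScalarTower C' S' S'']
  [Algebra.IsPushout C' C'' S' S'']
  [∀ k, Module C' (V' k)] [∀ k, IsScalarTower C' S' (V' k)]

include C' C'' in
/-- **Local step**: the defect module satisfies `N = q N`, where `q` is the kernel of a
surjection `S' → C''`. -/
theorem smul_top_defect (q : Ideal S') (π : S' →ₐ[C'] C'') (hπ : Function.Surjective π)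
    (hq : RingHom.ker π.toRingHom = q)
    {k : ℕ} (h : Stab S'' T (gcomp g₁ g₂) k)
    (hT : ∀ a k v, T' a k (g₁ k v) = g₁ (k + 1) (T a k v))
    (hspan : ∀ k, Submodule.span S' (Set.range (g₁ k)) = ⊤)
    (hBC : IsBaseChange S'' (g₂ k)) (hBC' : IsBaseChange S'' (g₂ (k + 1)))
    [Module.Flat C' (V' (k + 1))] :
    q • (⊤ : Submodule S' (Defect S' T g₁ k)) = ⊤ := by
  subst hq
  have h1 : Subsingleton (S'' ⊗[S'] Defect S' T g₁ k) :=
    subsingleton_tensor_defect S' S'' C' C'' h hT hspan hBC hBC'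
  have h2 : Subsingleton (C'' ⊗[C'] Defect S' T g₁ k) :=
    (Algebra.IsPushout.cancelBaseChange C' C'' S' S''
      (Defect S' T g₁ k)).symm.toEquiv.subsingleton
  let e : (S' ⧸ RingHom.ker π.toRingHom) ≃ₗ[C'] C'' :=
    (Ideal.quotientKerAlgEquivOfSurjective hπ).toLinearEquiv
  have h3 : Subsingleton ((S' ⧸ RingHom.ker π.toRingHom) ⊗[C'] Defect S' T g₁ k) :=
    (TensorProduct.congr e (LinearEquiv.refl C' (Defect S' T g₁ k))).toEquiv.subsingleton
  exact smul_top_eq_top_of_subsingleton_tensor (C' := C') _ _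

omit [Algebra S' S''] [Algebra S S''] [IsScalarTower S S' S''] in
/-- **Global step**: if the defect module is finite and `N = q N` at all maximal ideals, then
stability holds. -/
theorem stab_of_forall_maximal {k : ℕ}
    (hT : ∀ a k v, T' a k (g₁ k v) = g₁ (k + 1) (T a k v))
    (hfg : (Wk S' g₁ (k + 1)).FG)
    (h : ∀ q : Ideal S', q.IsMaximal → q • (⊤ : Submodule S' (Defect S' T g₁ k)) = ⊤) :
    Stab S' T g₁ k := by
  rw [stab_iff_subsingleton_defect S' hT]
  have : Module.Finite S' ↥(Wk S' g₁ (k + 1)) := Module.Finite.iff_fg.mpr hfg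
  exact subsingleton_of_forall_maximal_smul_top _ h

end FibGlobal

end Groth.Agent.H56.GrFlat
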