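import Mathlib
import Groth.Agent.H56.GrFlat.TensorLemmas

set_option autoImplicit false

/-!
# The `J`-adic truncations `M / J^k M` and graded pieces, as quotients / kernels (helper56)

`Ik J M k = J^k M`, `Qk J M k = M / J^k M`, `piQ : Q_{k+1} → Q_k`, `Gk J M k = ker piQ ⊆ Q_{k+1}`
(the graded piece `J^k M / J^{k+1} M`), multiplication maps `mulQ a : Q_k → Q_{k+1}` for `a ∈ J`
and `Tj a : G_k → G_{k+1}`.
-/

namespace Groth.Agent.H56.GrFlat

universe u

variable {S : Type u} [CommRing S] (J : Ideal S) (M : Type u) [AddCommGroup M] [Module S M]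

/-- `J^k M` -/
def Ik (k : ℕ) : Submodule S M := J ^ k • (⊤ : Submodule S M)

theorem Ik_zero : Ik J M 0 = ⊤ := by simp [Ik]

theorem Ik_succ (k : ℕ) : Ik J M (k + 1) = J • Ik J M k := by
  simp only [Ik, pow_succ', mul_smul]

theorem Ik_succ_le (k : ℕ) : Ik J M (k + 1) ≤ Ik J M k := by
  rw [Ik_succ]
  exact Submodule.smul_le_right

theorem smul_mem_Ik_succ {a : S} (ha : a ∈ J) {k : ℕ} {x : M} (hx : x ∈ Ik J M k) :
    a • x ∈ Ik J M (k + 1) := by
  rw [Ik_succ]
  exact Submodule.smul_mem_smul ha hx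

/-- `M / J^k M` -/
abbrev Qk (k : ℕ) : Type u := M ⧸ Ik J M k

/-- the projection `M / J^{k+1} M → M / J^k M` -/
def piQ (k : ℕ) : Qk J M (k + 1) →ₗ[S] Qk J M k :=
  Submodule.mapQ (Ik J M (k + 1)) (Ik J M k) LinearMap.id (by
    rw [Submodule.comap_id]
    exact Ik_succ_le J M k)

@[simp] theorem piQ_mk (k : ℕ) (x : M) :
    piQ J M k (Submodule.Quotient.mk x) = Submodule.Quotient.mk x := rfl

theorem piQ_surjective (k : ℕ) : Function.Surjective (piQ J M k) := by
  intro y
  obtain ⟨x, rfl⟩ := Submodule.Quotient.mk_surjective _ y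
  exact ⟨Submodule.Quotient.mk x, rfl⟩

/-- the graded piece `J^k M / J^{k+1} M`, as the kernel of `piQ` -/
def Gk (k : ℕ) : Submodule S (Qk J M (k + 1)) := LinearMap.ker (piQ J M k)

theorem mk_mem_Gk_iff (k : ℕ) (x : M) :
    (Submodule.Quotient.mk x : Qk J M (k + 1)) ∈ Gk J M k ↔ x ∈ Ik J M k := by
  rw [Gk, LinearMap.mem_ker, piQ_mk, Submodule.Quotient.mk_eq_zero]

theorem exact_Gk (k : ℕ) : Function.Exact (Gk J M k).subtype (piQ J M k) :=
  LinearMap.exact_subtype_ker_map _

variable {J} in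
/-- multiplication by `a ∈ J` as a map `M / J^k M → M / J^{k+1} M` -/
def mulQ {a : S} (ha : a ∈ J) (k : ℕ) : Qk J M k →ₗ[S] Qk J M (k + 1) :=
  Submodule.mapQ (Ik J M k) (Ik J M (k + 1)) (LinearMap.lsmul S M a) (by
    intro x hx
    exact smul_mem_Ik_succ J M ha hx)

variable {J} in
@[simp] theorem mulQ_mk {a : S} (ha : a ∈ J) (k : ℕ) (x : M) :
    mulQ M ha k (Submodule.Quotient.mk x) = Submodule.Quotient.mk (a • x) := rfl

variable {J} in
theorem piQ_mulQ {a : S} (ha : a ∈ J) (k : ℕ) (z : Qk J M (k + 1)) :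
    piQ J M (k + 1) (mulQ M ha (k + 1) z) = mulQ M ha k (piQ J M k z) := by
  obtain ⟨x, rfl⟩ := Submodule.Quotient.mk_surjective _ z
  rfl

variable {J} in
theorem mulQ_comm {a b : S} (ha : a ∈ J) (hb : b ∈ J) (k : ℕ) (z : Qk J M k) :
    mulQ M ha (k + 1) (mulQ M hb k z) = mulQ M hb (k + 1) (mulQ M ha k z) := by
  obtain ⟨x, rfl⟩ := Submodule.Quotient.mk_surjective _ z
  simp only [mulQ_mk]
  rw [smul_comm]

variable {J} in
/-- multiplication by `a ∈ J` on graded pieces `G_k → G_{k+1}` -/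
def Tj {a : S} (ha : a ∈ J) (k : ℕ) : Gk J M k →ₗ[S] Gk J M (k + 1) :=
  (mulQ M ha (k + 1)).restrict (by
    intro z hz
    rw [Gk, LinearMap.mem_ker] at hz ⊢
    rw [piQ_mulQ, hz, map_zero])

variable {J} in
@[simp] theorem Tj_coe {a : S} (ha : a ∈ J) (k : ℕ) (z : Gk J M k) :
    ((Tj M ha k z : Gk J M (k + 1)) : Qk J M (k + 2)) = mulQ M ha (k + 1) (z : Qk J M (k + 1)) :=
  rfl

variable {J} in
theorem Tj_comm {a b : S} (ha : a ∈ J) (hb : b ∈ J) (k : ℕ) (z : Gk J M k) :
    Tj M ha (k + 1) (Tj M hb k z) = Tj M hb (k + 1) (Tj M ha k z) := by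
  apply Subtype.ext
  simp only [Tj_coe]
  exact mulQ_comm M ha hb (k + 1) _

section Generation

variable {ι : Type*} [Fintype ι] (fs : ι → S)

/-- elements of `(f_1,…,f_s) N` are sums `∑ f_a y_a` with `y_a ∈ N` -/
theorem exists_sum_of_mem_span_range_smul (N : Submodule S M) {x : M}
    (hx : x ∈ Ideal.span (Set.range fs) • N) :
    ∃ y : ι → M, (∀ a, y a ∈ N) ∧ x = ∑ a, fs a • y a := by
  classical
  refine Submodule.smul_induction_on hx ?_ ?_
  · intro r hr n hn
    induction hr using Submodule.span_induction with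
    | mem r hr =>
      obtain ⟨a, rfl⟩ := hr
      refine ⟨fun b => if b = a then n else 0, fun b => ?_, ?_⟩
      · show (if b = a then n else 0) ∈ N
        split_ifs
        · exact hn
        · exact N.zero_mem
      · simp
    | zero => exact ⟨fun _ => 0, fun _ => N.zero_mem, by simp⟩
    | add r r' _ _ h h' =>
      obtain ⟨y, hy, e⟩ := h
      obtain ⟨y', hy', e'⟩ := h'
      refine ⟨fun a => y a + y' a, fun a => N.add_mem (hy a) (hy' a), ?_⟩
      rw [add_smul, e, e', ← Finset.sum_add_distrib]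
      simp only [smul_add]
    | smul c r _ h =>
      obtain ⟨y, hy, e⟩ := h
      refine ⟨fun a => c • y a, fun a => N.smul_mem c (hy a), ?_⟩
      rw [smul_eq_mul, mul_smul, e, Finset.smul_sum]
      apply Finset.sum_congr rfl
      intro a _
      rw [smul_comm]
  · intro x x' h h'
    obtain ⟨y, hy, e⟩ := h
    obtain ⟨y', hy', e'⟩ := h'
    refine ⟨fun a => y a + y' a, fun a => N.add_mem (hy a) (hy' a), ?_⟩
    rw [e, e', ← Finset.sum_add_distrib]
    simp only [smul_add]

variable (hJ : J = Ideal.span (Set.range fs))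

omit [Fintype ι] in
include hJ in
theorem fs_mem (a : ι) : fs a ∈ J := hJ ▸ Ideal.subset_span ⟨a, rfl⟩

include hJ in
/-- `G_{k+1}` is generated by the images of `G_k` under multiplication by the generators of `J` -/
theorem iSup_range_Tj (k : ℕ) :
    ⨆ a, LinearMap.range (Tj M (fs_mem J fs hJ a) k) = ⊤ := by
  rw [eq_top_iff]
  rintro ⟨z, hz⟩ -
  obtain ⟨x, rfl⟩ := Submodule.Quotient.mk_surjective _ z
  have hx : x ∈ Ik J M (k + 1) := (mk_mem_Gk_iff J M (k + 1) x).mp hz
  rw [Ik_succ, hJ] at hx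
  obtain ⟨y, hy, rfl⟩ := exists_sum_of_mem_span_range_smul M fs _ hx
  have hy' : ∀ a, (Submodule.Quotient.mk (y a) : Qk J M (k + 1)) ∈ Gk J M k :=
    fun a => (mk_mem_Gk_iff J M k (y a)).mpr (hJ ▸ hy a)
  have : (⟨Submodule.Quotient.mk (∑ a, fs a • y a), hz⟩ : Gk J M (k + 1)) =
      ∑ a, Tj M (fs_mem J fs hJ a) k ⟨Submodule.Quotient.mk (y a), hy' a⟩ := by
    apply Subtype.ext
    rw [Submodule.coe_sum]
    simp only [Tj_coe, mulQ_mk]
    change Submodule.Quotient.mk _ = _
    rw [← Submodule.mkQ_apply, map_sum]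
    rfl
  rw [this]
  refine Submodule.sum_mem _ fun a _ => ?_
  exact Submodule.mem_iSup_of_mem a ⟨_, rfl⟩

end Generation

section Flat

variable (C : Type u) [CommRing C] [Algebra C S] [Module C M] [IsScalarTower C S M]

/-- if all graded pieces are flat, all truncations are flat -/
theorem flat_Qk_of_flat_Gk (h : ∀ k, Module.Flat C (Gk J M k)) : ∀ k, Module.Flat C (Qk J M k) := by
  intro k
  induction k with
  | zero =>
    have : Subsingleton (Qk J M 0) := by
      rw [Submodule.Quotient.subsingleton_iff, Ik_zero]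
    infer_instance
  | succ k ih =>
    have := ih
    have := h k
    exact flat_of_exact ((Gk J M k).subtype.restrictScalars C) ((piQ J M k).restrictScalars C)
      (Gk J M k).injective_subtype (piQ_surjective J M k) (exact_Gk J M k)

/-- if all truncations are flat, all graded pieces are flat -/
theorem flat_Gk_of_flat_Qk (h : ∀ k, Module.Flat C (Qk J M k)) (k : ℕ) :
    Module.Flat C (Gk J M k) := by
  have := h k
  have := h (k + 1)
  exact flat_of_exact_left ((Gk J M k).subtype.restrictScalars C) ((piQ J M k).restrictScalars C)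
    (Gk J M k).injective_subtype (piQ_surjective J M k) (exact_Gk J M k)

end Flat

end Groth.Agent.H56.GrFlat
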