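import Mathlib
import Groth.Agent.H56.GrFlat.Gr

set_option autoImplicit false

/-!
# Base change of truncations and graded pieces (helper56)

`S → S'` a ring map, `J' = J S'`, `f : M → M'` a base change.  Then `Q_k(M) → Q_k(M')` is a base
change, `G_k(M) → G_k(M')` has spanning image, and is a base change as soon as `Q_k(M)` is flat
over a base ring `C` of which `S → S'` is a pushout (`isBaseChange_gf`).
-/

namespace Groth.Agent.H56.GrFlat

universe u

open TensorProduct

section

variable {S S' : Type u} [CommRing S] [CommRing S'] [Algebra S S']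
  (J : Ideal S) {J' : Ideal S'} (hJ : J.map (algebraMap S S') = J')
  {M M' : Type u} [AddCommGroup M] [Module S M] [AddCommGroup M'] [Module S M'] [Module S' M']
  [IsScalarTower S S' M'] {f : M →ₗ[S] M'} (hf : IsBaseChange S' f)

include hf in
theorem span_range_eq_top_of_isBaseChange :
    Submodule.span S' (Set.range f) = ⊤ := by
  rw [eq_top_iff]
  rintro x -
  induction x using hf.inductionOn with
  | zero => exact Submodule.zero_mem _
  | tmul m => exact Submodule.subset_span ⟨m, rfl⟩
  | smul s n h => exact Submodule.smul_mem _ s h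
  | add a b ha hb => exact Submodule.add_mem _ ha hb

include hJ hJ hf in
theorem span_image_Ik (k : ℕ) :
    Submodule.span S' (f '' (Ik J M k : Set M)) = Ik J' M' k := by
  subst hJ
  apply le_antisymm
  · rw [Submodule.span_le]
    rintro _ ⟨x, hx, rfl⟩
    change x ∈ J ^ k • (⊤ : Submodule S M) at hx
    refine Submodule.smul_induction_on hx ?_ ?_
    · intro r hr m _
      rw [map_smul, ← algebraMap_smul S' r (f m)]
      change _ ∈ (J.map (algebraMap S S')) ^ k • (⊤ : Submodule S' M')
      rw [← Ideal.map_pow]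
      exact Submodule.smul_mem_smul (Ideal.mem_map_of_mem _ hr) Submodule.mem_top
    · intro a b ha hb
      rw [map_add]
      exact Submodule.add_mem _ ha hb
  · change (J.map (algebraMap S S')) ^ k • (⊤ : Submodule S' M') ≤ _
    rw [← Ideal.map_pow, ← span_range_eq_top_of_isBaseChange hf, Ideal.map, Ideal.span,
      Submodule.span_smul_span, Submodule.span_le]
    rintro _ ⟨_, ⟨r, hr, rfl⟩, _, ⟨m, rfl⟩, rfl⟩
    change algebraMap S S' r • f m ∈ _
    rw [algebraMap_smul, ← map_smul]
    exact Submodule.subset_span ⟨r • m, Submodule.smul_mem_smul hr Submodule.mem_top, rfl⟩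

/-- the base change map on truncations -/
noncomputable def qf (k : ℕ) : Qk J M k →ₗ[S] Qk (J') M' k :=
  ((Submodule.quotEquivOfEq _ _ (span_image_Ik J hJ hf k)).toLinearMap.restrictScalars S).comp
    (quotMap (S := S') f (Ik J M k))

@[simp] theorem qf_mk (k : ℕ) (x : M) :
    qf J hJ hf k (Submodule.Quotient.mk x) = Submodule.Quotient.mk (f x) := rfl

theorem isBaseChange_qf (k : ℕ) : IsBaseChange S' (qf J hJ hf k) :=
  (isBaseChange_quotMap hf (Ik J M k)).comp
    (IsBaseChange.ofEquiv (Submodule.quotEquivOfEq _ _ (span_image_Ik J hJ hf k)))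

theorem piQ_qf (k : ℕ) (z : Qk J M (k + 1)) :
    piQ (J') M' k (qf J hJ hf (k + 1) z) = qf J hJ hf k (piQ J M k z) := by
  obtain ⟨x, rfl⟩ := Submodule.Quotient.mk_surjective _ z
  rfl

theorem qf_mem_Gk (k : ℕ) {z : Qk J M (k + 1)} (hz : z ∈ Gk J M k) :
    qf J hJ hf (k + 1) z ∈ Gk (J') M' k := by
  rw [Gk, LinearMap.mem_ker] at hz ⊢
  rw [piQ_qf, hz, map_zero]

/-- the base change map on graded pieces -/
noncomputable def gf (k : ℕ) : Gk J M k →ₗ[S] Gk (J') M' k :=
  ((qf J hJ hf (k + 1)).comp (Gk J M k).subtype).codRestrict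
    ((Gk (J') M' k).restrictScalars S) (fun z => qf_mem_Gk J hJ hf k z.2)

@[simp] theorem gf_coe (k : ℕ) (z : Gk J M k) :
    ((gf J hJ hf k z : Gk (J') M' k) : Qk (J') M' (k + 1)) =
      qf J hJ hf (k + 1) (z : Qk J M (k + 1)) := rfl

theorem mulQ_qf {a : S} (ha : a ∈ J) (ha' : algebraMap S S' a ∈ J') (k : ℕ) (z : Qk J M k) :
    mulQ M' ha' k (qf J hJ hf k z) =
      qf J hJ hf (k + 1) (mulQ M ha k z) := by
  obtain ⟨x, rfl⟩ := Submodule.Quotient.mk_surjective _ z
  simp only [qf_mk, mulQ_mk, map_smul, algebraMap_smul]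

theorem Tj_gf {a : S} (ha : a ∈ J) (ha' : algebraMap S S' a ∈ J') (k : ℕ) (z : Gk J M k) :
    Tj M' ha' k (gf J hJ hf k z) =
      gf J hJ hf (k + 1) (Tj M ha k z) := by
  apply Subtype.ext
  simp only [Tj_coe, gf_coe]
  exact mulQ_qf J hJ hf ha ha' (k + 1) _

/-- `G_k(M')` is spanned by the image of `G_k(M)` -/
theorem Gk_le_span_image (k : ℕ) :
    Gk (J') M' k ≤
      Submodule.span S' (qf J hJ hf (k + 1) '' (Gk J M k : Set (Qk J M (k + 1)))) := by
  intro z' hz'
  obtain ⟨x', rfl⟩ := Submodule.Quotient.mk_surjective _ z'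
  have hx' : x' ∈ Ik (J') M' k := (mk_mem_Gk_iff _ M' k x').mp hz'
  rw [← span_image_Ik J hJ hf k] at hx'
  have : (Submodule.Quotient.mk x' : Qk (J') M' (k + 1)) ∈
      (Submodule.span S' (f '' (Ik J M k : Set M))).map
        (Ik (J') M' (k + 1)).mkQ := ⟨x', hx', rfl⟩
  rw [Submodule.map_span] at this
  refine Submodule.span_mono ?_ this
  rintro _ ⟨_, ⟨x, hx, rfl⟩, rfl⟩
  exact ⟨Submodule.Quotient.mk x, (mk_mem_Gk_iff J M k x).mpr hx, rfl⟩

theorem span_range_gf (k : ℕ) : Submodule.span S' (Set.range (gf J hJ hf k)) = ⊤ := by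
  rw [eq_top_iff]
  rintro ⟨z, hz⟩ -
  have h := Gk_le_span_image J hJ hf k hz
  -- pull back the span along the subtype
  have key : ∀ w ∈ Submodule.span S' (qf J hJ hf (k + 1) '' (Gk J M k : Set (Qk J M (k + 1)))),
      ∀ hw : w ∈ Gk (J') M' k,
        (⟨w, hw⟩ : Gk (J') M' k) ∈ Submodule.span S' (Set.range (gf J hJ hf k)) := by
    intro w hw
    induction hw using Submodule.span_induction with
    | mem w hw =>
      obtain ⟨y, hy, rfl⟩ := hw
      intro hw'
      exact Submodule.subset_span ⟨⟨y, hy⟩, rfl⟩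
    | zero => intro _; exact Submodule.zero_mem _
    | add a b ha hb iha ihb =>
      intro hab
      have ha' : a ∈ Gk (J') M' k := by
        refine (Submodule.span_le (p := Gk (J') M' k)).mpr ?_ ha
        rintro _ ⟨y, hy, rfl⟩
        exact qf_mem_Gk J hJ hf k hy
      have hb' : b ∈ Gk (J') M' k := by
        refine (Submodule.span_le (p := Gk (J') M' k)).mpr ?_ hb
        rintro _ ⟨y, hy, rfl⟩
        exact qf_mem_Gk J hJ hf k hy
      have : (⟨a + b, hab⟩ : Gk (J') M' k) = ⟨a, ha'⟩ + ⟨b, hb'⟩ := rfl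
      rw [this]
      exact Submodule.add_mem _ (iha ha') (ihb hb')
    | smul c a ha iha =>
      intro hca
      have ha' : a ∈ Gk (J') M' k := by
        refine (Submodule.span_le (p := Gk (J') M' k)).mpr ?_ ha
        rintro _ ⟨y, hy, rfl⟩
        exact qf_mem_Gk J hJ hf k hy
      have : (⟨c • a, hca⟩ : Gk (J') M' k) = c • ⟨a, ha'⟩ := rfl
      rw [this]
      exact Submodule.smul_mem _ c (iha ha')
  exact key z h hz

end

section F2

variable (C D : Type u) {S S' : Type u} [CommRing C] [CommRing D] [CommRing S] [CommRing S']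
  [Algebra C D] [Algebra C S] [Algebra C S'] [Algebra D S'] [Algebra S S']
  [IsScalarTower C D S'] [IsScalarTower C S S'] [Algebra.IsPushout C D S S']
  (J : Ideal S) {J' : Ideal S'} (hJ : J.map (algebraMap S S') = J')
  {M M' : Type u} [AddCommGroup M] [Module S M] [Module C M] [IsScalarTower C S M]
  [AddCommGroup M'] [Module S M'] [Module S' M'] [IsScalarTower S S' M']
  [Module D M'] [IsScalarTower D S' M']
  {f : M →ₗ[S] M'} (hf : IsBaseChange S' f)

include C D in
/-- **Graded pieces commute with base change when the truncation is flat.** -/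
theorem isBaseChange_gf (k : ℕ) [Module.Flat C (Qk J M k)] : IsBaseChange S' (gf J hJ hf k) := by
  -- the literal base change of `G_k`
  let T := S' ⊗[S] ↥(Gk J M k)
  let f₁ : ↥(Gk J M k) →ₗ[S] T := TensorProduct.mk S S' ↥(Gk J M k) 1
  have h₁ : IsBaseChange S' f₁ := TensorProduct.isBaseChange S ↥(Gk J M k) S'
  let ι' : T →ₗ[S'] Qk (J') M' (k + 1) :=
    LinearMap.liftBaseChange S' ((qf J hJ hf (k + 1)).comp (Gk J M k).subtype)
  have hcomm : ∀ x, ι' (f₁ x) = qf J hJ hf (k + 1) ((Gk J M k).subtype x) := by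
    intro x
    change LinearMap.liftBaseChange S' ((qf J hJ hf (k + 1)).comp (Gk J M k).subtype)
      ((1 : S') ⊗ₜ[S] x) = _
    rw [LinearMap.liftBaseChange_tmul, one_smul]
    rfl
  have hinj : Function.Injective ι' :=
    injective_of_flat_coker_pushout C D S S' (Gk J M k).subtype (piQ J M k)
      (Gk J M k).injective_subtype (exact_Gk J M k) (piQ_surjective J M k) h₁
      (isBaseChange_qf J hJ hf (k + 1)) ι' hcomm
  -- the lift to `G_k(M')`
  let g' : T →ₗ[S'] ↥(Gk (J') M' k) := LinearMap.liftBaseChange S' (gf J hJ hf k)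
  have hg'coe : ∀ t, ((g' t : Gk (J') M' k) :
      Qk (J') M' (k + 1)) = ι' t := by
    intro t
    induction t using TensorProduct.induction_on with
    | zero => simp
    | tmul s z =>
      change ((LinearMap.liftBaseChange S' (gf J hJ hf k) (s ⊗ₜ[S] z) :
        Gk (J') M' k) : Qk (J') M' (k + 1)) =
        LinearMap.liftBaseChange S' ((qf J hJ hf (k + 1)).comp (Gk J M k).subtype) (s ⊗ₜ[S] z)
      rw [LinearMap.liftBaseChange_tmul, LinearMap.liftBaseChange_tmul]
      rfl
    | add a b ha hb => simp only [map_add, Submodule.coe_add, ha, hb]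
  have hg'inj : Function.Injective g' := by
    intro a b hab
    apply hinj
    rw [← hg'coe, ← hg'coe, hab]
  have hg'surj : Function.Surjective g' := by
    rw [← LinearMap.range_eq_top, eq_top_iff, ← span_range_gf J hJ hf k, Submodule.span_le]
    rintro _ ⟨z, rfl⟩
    refine ⟨(1 : S') ⊗ₜ z, ?_⟩
    change LinearMap.liftBaseChange S' (gf J hJ hf k) ((1 : S') ⊗ₜ[S] z) = _
    rw [LinearMap.liftBaseChange_tmul, one_smul]
  refine IsBaseChange.of_equiv (LinearEquiv.ofBijective g' ⟨hg'inj, hg'surj⟩) ?_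
  intro z
  change LinearMap.liftBaseChange S' (gf J hJ hf k) ((1 : S') ⊗ₜ[S] z) = _
  rw [LinearMap.liftBaseChange_tmul, one_smul]

end F2

end Groth.Agent.H56.GrFlat
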