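import Mathlib
import Groth.Agent.H1.FlatLocusColim
import Groth.Agent.H56.GrFlat.GrBC
import Groth.Agent.H56.GrFlat.Fib

set_option autoImplicit false
set_option maxSynthPendingDepth 3

/-!
# The `J`-adic graded system attached to a model (helper56)

A model `𝓜` over `Z` (helper1's `Model`: a presentation pattern of a module over a polynomial ring)
together with polynomials `𝔣 a ∈ P Z` defines, for every `Z`-algebra `D`, the polynomial ring `P D`,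
the ideal `JJ D = (𝔣)`, the module `Mod D`, its truncations and graded pieces, and transition maps.
-/

namespace Groth.Agent.H56.GrFlat

universe u

open TensorProduct Groth.Agent.H1.FlatLocus

attribute [local instance] MvPolynomial.algebraMvPolynomial

/-- towers of polynomial rings -/
theorem isScalarTower_mvPolynomial (σ : Type*) (C D E : Type*) [CommRing C] [CommRing D]
    [CommRing E] [Algebra C D] [Algebra D E] [Algebra C E] [IsScalarTower C D E] :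
    IsScalarTower (MvPolynomial σ C) (MvPolynomial σ D) (MvPolynomial σ E) :=
  IsScalarTower.of_algebraMap_eq' (by
    simp only [MvPolynomial.algebraMap_def]
    refine RingHom.ext fun p => ?_
    rw [RingHom.comp_apply, MvPolynomial.map_map, ← IsScalarTower.algebraMap_eq])

namespace Sys

variable {Z : Type u} [CommRing Z] (𝓜 : Model Z) {s : ℕ} (𝔣 : Fin s → 𝓜.P Z)

section One

variable (D : Type u) [CommRing D] [Algebra Z D]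

/-- the generators over `D` -/
noncomputable def fD (a : Fin s) : 𝓜.P D := MvPolynomial.map (algebraMap Z D) (𝔣 a)

/-- the ideal over `D` -/
noncomputable def JJ : Ideal (𝓜.P D) := Ideal.span (Set.range (fD 𝓜 𝔣 D))

theorem fD_mem (a : Fin s) : fD 𝓜 𝔣 D a ∈ JJ 𝓜 𝔣 D := Ideal.subset_span ⟨a, rfl⟩

/-- truncations -/
abbrev QQ (k : ℕ) : Type u := Qk (JJ 𝓜 𝔣 D) (𝓜.Mod D) k

/-- graded pieces -/
abbrev GG (k : ℕ) : Type u := ↥(Gk (JJ 𝓜 𝔣 D) (𝓜.Mod D) k)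

/-- the operators -/
noncomputable def TT (a : Fin s) (k : ℕ) : GG 𝓜 𝔣 D k →ₗ[𝓜.P D] GG 𝓜 𝔣 D (k + 1) :=
  Tj (𝓜.Mod D) (fD_mem 𝓜 𝔣 D a) k

theorem TT_comm (a b : Fin s) (k : ℕ) (z : GG 𝓜 𝔣 D k) :
    TT 𝓜 𝔣 D a (k + 1) (TT 𝓜 𝔣 D b k z) = TT 𝓜 𝔣 D b (k + 1) (TT 𝓜 𝔣 D a k z) :=
  Tj_comm (𝓜.Mod D) (fD_mem 𝓜 𝔣 D a) (fD_mem 𝓜 𝔣 D b) k z

theorem iSup_range_TT (k : ℕ) : ⨆ a, LinearMap.range (TT 𝓜 𝔣 D a k) = ⊤ :=
  iSup_range_Tj (JJ 𝓜 𝔣 D) (𝓜.Mod D) (fD 𝓜 𝔣 D) rfl k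

end One

section Two

variable (C D : Type u) [CommRing C] [CommRing D] [Algebra Z C] [Algebra Z D] [Algebra C D]
  [IsScalarTower Z C D]

theorem algebraMap_fD (a : Fin s) : algebraMap (𝓜.P C) (𝓜.P D) (fD 𝓜 𝔣 C a) = fD 𝓜 𝔣 D a := by
  simp only [fD, MvPolynomial.algebraMap_def, MvPolynomial.map_map]
  rw [← IsScalarTower.algebraMap_eq]

theorem map_JJ : (JJ 𝓜 𝔣 C).map (algebraMap (𝓜.P C) (𝓜.P D)) = JJ 𝓜 𝔣 D := by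
  rw [JJ, Ideal.map_span, ← Set.range_comp, JJ]
  congr 2
  funext a
  exact algebraMap_fD 𝓜 𝔣 C D a

/-- transition maps on truncations -/
noncomputable def qm (k : ℕ) : QQ 𝓜 𝔣 C k →ₗ[𝓜.P C] QQ 𝓜 𝔣 D k :=
  qf (JJ 𝓜 𝔣 C) (map_JJ 𝓜 𝔣 C D) (𝓜.isBaseChange_mapMod C D) k

theorem isBaseChange_qm (k : ℕ) : IsBaseChange (𝓜.P D) (qm 𝓜 𝔣 C D k) :=
  isBaseChange_qf (JJ 𝓜 𝔣 C) (map_JJ 𝓜 𝔣 C D) (𝓜.isBaseChange_mapMod C D) k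

/-- transition maps on graded pieces -/
noncomputable def gm (k : ℕ) : GG 𝓜 𝔣 C k →ₗ[𝓜.P C] GG 𝓜 𝔣 D k :=
  gf (JJ 𝓜 𝔣 C) (map_JJ 𝓜 𝔣 C D) (𝓜.isBaseChange_mapMod C D) k

theorem TT_gm (a : Fin s) (k : ℕ) (z : GG 𝓜 𝔣 C k) :
    TT 𝓜 𝔣 D a k (gm 𝓜 𝔣 C D k z) = gm 𝓜 𝔣 C D (k + 1) (TT 𝓜 𝔣 C a k z) := by
  have h := Tj_gf (JJ 𝓜 𝔣 C) (map_JJ 𝓜 𝔣 C D) (𝓜.isBaseChange_mapMod C D) (fD_mem 𝓜 𝔣 C a)
    (by rw [algebraMap_fD]; exact fD_mem 𝓜 𝔣 D a) k z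
  change Tj (𝓜.Mod D) (fD_mem 𝓜 𝔣 D a) k
      (gf (JJ 𝓜 𝔣 C) (map_JJ 𝓜 𝔣 C D) (𝓜.isBaseChange_mapMod C D) k z) =
    gf (JJ 𝓜 𝔣 C) (map_JJ 𝓜 𝔣 C D) (𝓜.isBaseChange_mapMod C D) (k + 1)
      (Tj (𝓜.Mod C) (fD_mem 𝓜 𝔣 C a) k z)
  rw [← h]
  have : ∀ (x y : 𝓜.P D) (_ : x = y) (hx : x ∈ JJ 𝓜 𝔣 D) (hy : y ∈ JJ 𝓜 𝔣 D),
      Tj (𝓜.Mod D) hx k = Tj (𝓜.Mod D) hy k := by
    intro x y hxy
    subst hxy
    intro _ _
    rfl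
  exact LinearMap.congr_fun (this _ _ (algebraMap_fD 𝓜 𝔣 C D a).symm _ _) _

theorem span_range_gm (k : ℕ) : Submodule.span (𝓜.P D) (Set.range (gm 𝓜 𝔣 C D k)) = ⊤ :=
  span_range_gf (JJ 𝓜 𝔣 C) (map_JJ 𝓜 𝔣 C D) (𝓜.isBaseChange_mapMod C D) k

/-- **F2** for models -/
theorem isBaseChange_gm (k : ℕ) [Module.Flat C (QQ 𝓜 𝔣 C k)] :
    IsBaseChange (𝓜.P D) (gm 𝓜 𝔣 C D k) :=
  isBaseChange_gf C D (JJ 𝓜 𝔣 C) (map_JJ 𝓜 𝔣 C D) (𝓜.isBaseChange_mapMod C D) k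

theorem flat_QQ_of_flat (k : ℕ) [Module.Flat C (QQ 𝓜 𝔣 C k)] : Module.Flat D (QQ 𝓜 𝔣 D k) :=
  flat_of_isBaseChange_pushout C D (𝓜.P C) (𝓜.P D) (isBaseChange_qm 𝓜 𝔣 C D k)

end Two

section Three

variable (C D E : Type u) [CommRing C] [CommRing D] [CommRing E] [Algebra Z C] [Algebra Z D]
  [Algebra Z E] [Algebra C D] [Algebra D E] [Algebra C E] [IsScalarTower Z C D]
  [IsScalarTower Z D E] [IsScalarTower Z C E] [IsScalarTower C D E]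

theorem mapMod_comp (x : 𝓜.Mod C) : 𝓜.mapMod D E (𝓜.mapMod C D x) = 𝓜.mapMod C E x := by
  obtain ⟨x, rfl⟩ := Submodule.Quotient.mk_surjective _ x
  simp only [Model.mapMod_mk]
  congr 1
  ext i : 1
  simp only [Model.mapF_apply, MvPolynomial.map_map]
  rw [← IsScalarTower.algebraMap_eq]

theorem qm_comp (k : ℕ) (w : QQ 𝓜 𝔣 C k) :
    qm 𝓜 𝔣 D E k (qm 𝓜 𝔣 C D k w) = qm 𝓜 𝔣 C E k w := by
  obtain ⟨x, rfl⟩ := Submodule.Quotient.mk_surjective _ w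
  simp only [qm, qf_mk, mapMod_comp]

theorem gm_comp (k : ℕ) (z : GG 𝓜 𝔣 C k) :
    gm 𝓜 𝔣 D E k (gm 𝓜 𝔣 C D k z) = gm 𝓜 𝔣 C E k z := by
  apply Subtype.ext
  simp only [gm, gf_coe]
  exact qm_comp 𝓜 𝔣 C D E (k + 1) _

instance : IsScalarTower (𝓜.P C) (𝓜.P D) (𝓜.P E) := isScalarTower_mvPolynomial _ C D E

example (k : ℕ) : IsScalarTower (𝓜.P C) (𝓜.P D) (GG 𝓜 𝔣 E k) := inferInstance
example (k : ℕ) : IsScalarTower (𝓜.P D) (𝓜.P E) (GG 𝓜 𝔣 E k) := inferInstance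
example (k : ℕ) : IsScalarTower (𝓜.P C) (𝓜.P E) (GG 𝓜 𝔣 E k) := inferInstance
example (k : ℕ) : IsScalarTower (𝓜.P C) (𝓜.P D) (GG 𝓜 𝔣 D k) := inferInstance
example (k : ℕ) : IsScalarTower D (𝓜.P D) (GG 𝓜 𝔣 D k) := inferInstance

theorem gcomp_gm : gcomp (gm 𝓜 𝔣 C D) (gm 𝓜 𝔣 D E) = gm 𝓜 𝔣 C E := by
  funext k
  exact LinearMap.ext fun z => gm_comp 𝓜 𝔣 C D E k z

end Three

end Sys

end Groth.Agent.H56.GrFlat
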