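import Mathlib
import Groth.Agent.H56.GrFlat.Setup
import Groth.Agent.H70.GrFree.SubQuot

set_option autoImplicit false
set_option maxSynthPendingDepth 3

/-!
# Tensor forms of the truncations and graded pieces of a model (helper56)

`(D ⊗[C] Mod C) / (D ⊗ J^n Mod C) ≃ Mod D / J_D^n Mod D`, and the analogous statement for the
sub-quotients `J^n / J^{n+1}`.
-/

namespace Groth.Agent.H56.GrFlat

universe u

open TensorProduct Groth.Agent.H1.FlatLocus

section SpanPush

variable (C D S S' : Type u) [CommRing C] [CommRing D] [CommRing S] [CommRing S']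
  [Algebra C D] [Algebra C S] [Algebra C S'] [Algebra D S'] [Algebra S S']
  [IsScalarTower C D S'] [IsScalarTower C S S'] [Algebra.IsPushout C D S S']
  {M M' : Type u} [AddCommGroup M] [Module S M]
  [AddCommGroup M'] [Module S M'] [Module S' M'] [IsScalarTower S S' M']
  [Module D M'] [IsScalarTower D S' M']

include C in
/-- the `D`-span of the image of an `S`-submodule is already an `S'`-submodule -/
theorem span_image_restrictScalars (f : M →ₗ[S] M') (N : Submodule S M) :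
    Submodule.span D (f '' (N : Set M)) =
      (Submodule.span S' (f '' (N : Set M))).restrictScalars D := by
  apply le_antisymm
  · rw [Submodule.span_le]
    intro y hy
    exact Submodule.subset_span hy
  · -- closure under `S'`
    have hS : ∀ (s : S) (y : M'), y ∈ Submodule.span D (f '' (N : Set M)) →
        s • y ∈ Submodule.span D (f '' (N : Set M)) := by
      intro s y hy
      induction hy using Submodule.span_induction with
      | mem y hy =>
        obtain ⟨x, hx, rfl⟩ := hy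
        rw [← map_smul]
        exact Submodule.subset_span ⟨s • x, N.smul_mem s hx, rfl⟩
      | zero => rw [smul_zero]; exact Submodule.zero_mem _
      | add y z _ _ hy hz => rw [smul_add]; exact Submodule.add_mem _ hy hz
      | smul d y _ hy =>
        have : s • d • y = d • s • y := by
          rw [← algebraMap_smul S' s (d • y), ← algebraMap_smul S' d y, ← algebraMap_smul S' s y,
            ← algebraMap_smul S' d (algebraMap S S' s • y), smul_smul, smul_smul, mul_comm]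
        rw [this]
        exact Submodule.smul_mem _ d hy
    have hS' : ∀ (s' : S') (y : M'), y ∈ Submodule.span D (f '' (N : Set M)) →
        s' • y ∈ Submodule.span D (f '' (N : Set M)) := by
      intro s' y hy
      have hbc : IsBaseChange D (IsScalarTower.toAlgHom C S S').toLinearMap :=
        (Algebra.IsPushout.out : IsBaseChange D (IsScalarTower.toAlgHom C S S').toLinearMap)
      induction s' using hbc.inductionOn with
      | zero => rw [zero_smul]; exact Submodule.zero_mem _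
      | tmul s =>
        change algebraMap S S' s • y ∈ _
        rw [algebraMap_smul]
        exact hS s y hy
      | smul d s' h =>
        rw [smul_assoc]
        exact Submodule.smul_mem _ d h
      | add a b ha hb => rw [add_smul]; exact Submodule.add_mem _ ha hb
    intro y hy
    change y ∈ Submodule.span S' (f '' (N : Set M)) at hy
    induction hy using Submodule.span_induction with
    | mem y hy => exact Submodule.subset_span hy
    | zero => exact Submodule.zero_mem _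
    | add y z _ _ hy hz => exact Submodule.add_mem _ hy hz
    | smul s' y _ hy => exact hS' s' y hy

end SpanPush

attribute [local instance] MvPolynomial.algebraMvPolynomial

namespace Sys

variable {Z : Type u} [CommRing Z] (𝓜 : Model Z) {s : ℕ} (𝔣 : Fin s → 𝓜.P Z)
  (C D : Type u) [CommRing C] [CommRing D] [Algebra Z C] [Algebra Z D] [Algebra C D]
  [IsScalarTower Z C D]

/-- the `C`-submodule `J^n Mod C` -/
noncomputable abbrev Pn (n : ℕ) : Submodule C (𝓜.Mod C) := (Ik (JJ 𝓜 𝔣 C) (𝓜.Mod C) n).restrictScalars C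

/-- the comparison `D ⊗[C] Mod C ≃ Mod D` -/
noncomputable abbrev bcEquiv : D ⊗[C] 𝓜.Mod C ≃ₗ[D] 𝓜.Mod D :=
  pushoutEquiv C D (𝓜.P C) (𝓜.P D) (𝓜.isBaseChange_mapMod C D)

theorem map_bcEquiv_baseChange_Pn (n : ℕ) :
    ((Pn 𝓜 𝔣 C n).baseChange D).map (bcEquiv 𝓜 C D).toLinearMap = Pn 𝓜 𝔣 D n := by
  rw [Submodule.baseChange_eq_span, Submodule.map_span]
  have h1 : (bcEquiv 𝓜 C D).toLinearMap ''
      ((Submodule.map (TensorProduct.mk C D (𝓜.Mod C) 1) (Pn 𝓜 𝔣 C n) : Submodule C _) : Set _) =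
      𝓜.mapMod C D '' (Ik (JJ 𝓜 𝔣 C) (𝓜.Mod C) n : Set (𝓜.Mod C)) := by
    ext y
    constructor
    · rintro ⟨_, ⟨x, hx, rfl⟩, rfl⟩
      refine ⟨x, hx, ?_⟩
      simp only [TensorProduct.mk_apply, LinearEquiv.coe_coe, pushoutEquiv_tmul, one_smul]
    · rintro ⟨x, hx, rfl⟩
      refine ⟨_, ⟨x, hx, rfl⟩, ?_⟩
      simp only [TensorProduct.mk_apply, LinearEquiv.coe_coe, pushoutEquiv_tmul, one_smul]
  rw [h1, span_image_restrictScalars C D (𝓜.P C) (𝓜.P D),
    span_image_Ik (JJ 𝓜 𝔣 C) (map_JJ 𝓜 𝔣 C D) (𝓜.isBaseChange_mapMod C D) n]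

/-- tensor form of the truncations -/
noncomputable def quotTensorEquiv (n : ℕ) :
    ((D ⊗[C] 𝓜.Mod C) ⧸ (Pn 𝓜 𝔣 C n).baseChange D) ≃ₗ[D] QQ 𝓜 𝔣 D n :=
  (Submodule.Quotient.equiv _ _ (bcEquiv 𝓜 C D) (map_bcEquiv_baseChange_Pn 𝓜 𝔣 C D n)).trans
    (Submodule.Quotient.restrictScalarsEquiv D (Ik (JJ 𝓜 𝔣 D) (𝓜.Mod D) n))

theorem Gk_eq_map (n : ℕ) :
    (Gk (JJ 𝓜 𝔣 D) (𝓜.Mod D) n).restrictScalars D =
      ((Pn 𝓜 𝔣 D n).map (Pn 𝓜 𝔣 D (n + 1)).mkQ).map
        (Submodule.Quotient.restrictScalarsEquiv D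
          (Ik (JJ 𝓜 𝔣 D) (𝓜.Mod D) (n + 1))).toLinearMap := by
  ext z
  obtain ⟨x, rfl⟩ := Submodule.Quotient.mk_surjective _ z
  simp only [Submodule.restrictScalars_mem, mk_mem_Gk_iff, Submodule.mem_map]
  constructor
  · intro hx
    exact ⟨Submodule.Quotient.mk x, ⟨x, hx, rfl⟩, rfl⟩
  · rintro ⟨_, ⟨y, hy, rfl⟩, hyx⟩
    change (Submodule.Quotient.mk y : QQ 𝓜 𝔣 D (n + 1)) = Submodule.Quotient.mk x at hyx
    have hd : y - x ∈ Ik (JJ 𝓜 𝔣 D) (𝓜.Mod D) (n + 1) :=
      (Submodule.Quotient.eq _).mp hyx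
    have hy' : y ∈ Ik (JJ 𝓜 𝔣 D) (𝓜.Mod D) n := hy
    have := Submodule.sub_mem _ hy' (Ik_succ_le _ _ n hd)
    rwa [sub_sub_cancel] at this

/-- tensor form of the graded pieces -/
noncomputable def subQuotTensorEquiv (n : ℕ) :
    ↥(((Pn 𝓜 𝔣 C n).baseChange D).map ((Pn 𝓜 𝔣 C (n + 1)).baseChange D).mkQ) ≃ₗ[D]
      GG 𝓜 𝔣 D n :=
  (Groth.Agent.H70.GrFree.subQuotCongr (bcEquiv 𝓜 C D) _ _ _ _
    (map_bcEquiv_baseChange_Pn 𝓜 𝔣 C D n) (map_bcEquiv_baseChange_Pn 𝓜 𝔣 C D (n + 1))).trans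
  (((Submodule.Quotient.restrictScalarsEquiv D
      (Ik (JJ 𝓜 𝔣 D) (𝓜.Mod D) (n + 1))).submoduleMap _).trans
    ((LinearEquiv.ofEq _ _ (Gk_eq_map 𝓜 𝔣 D n).symm).trans
      ({ AddEquiv.refl ↥(Gk (JJ 𝓜 𝔣 D) (𝓜.Mod D) n) with
          map_smul' := fun _ _ => rfl } :
        ↥((Gk (JJ 𝓜 𝔣 D) (𝓜.Mod D) n).restrictScalars D) ≃ₗ[D] GG 𝓜 𝔣 D n)))

end Sys

end Groth.Agent.H56.GrFlat
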