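import Mathlib
import Groth.Agent.H56.GrFlat.Conv
import Groth.Agent.H70.GrFree.StratFinal

set_option autoImplicit false
set_option maxSynthPendingDepth 3

/-!
# Strata with flat truncations (helper56, using helper70's stratification)
-/

namespace Groth.Agent.H56.GrFlat

universe u

open TensorProduct Groth.Agent.H1.FlatLocus

attribute [local instance] MvPolynomial.algebraMvPolynomial

namespace Sys

variable {Z : Type u} [CommRing Z] (𝓜 : Model Z) {s : ℕ} (𝔣 : Fin s → 𝓜.P Z)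

/-- the stratum ring -/
abbrev Zi (x : Ideal Z × Z) : Type u := Localization.Away (Ideal.Quotient.mk x.1 x.2)

/-- **Strata**: finitely many `Z_i = (Z/𝔭_i)[1/h_i]` covering `Spec Z` over which all truncations
are flat. -/
theorem exists_strata [IsNoetherianRing Z] :
    ∃ (m : ℕ) (d : Fin m → Ideal Z × Z),
      (∀ i k, Module.Flat (Zi (d i)) (QQ 𝓜 𝔣 (Zi (d i)) k)) ∧
      (∀ q : PrimeSpectrum Z, ∃ i, (d i).1 ≤ q.asIdeal ∧ (d i).2 ∉ q.asIdeal) := by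
  obtain ⟨m, d, -, hunion, -, hflat⟩ :=
    Groth.Agent.H70.GrFree.exists_affine_stratification (A₀ := Z) (B₀ := 𝓜.P Z)
      (JJ 𝓜 𝔣 Z) (𝓜.Mod Z)
  refine ⟨m, d, fun i => ?_, fun q => ?_⟩
  · have hG : ∀ n, Module.Flat (Zi (d i))
        ↥(Gk (JJ 𝓜 𝔣 (Zi (d i))) (𝓜.Mod (Zi (d i))) n) := fun n =>
      have : Module.Flat (Zi (d i))
          ↥(((Pn 𝓜 𝔣 Z n).baseChange (Zi (d i))).map
            ((Pn 𝓜 𝔣 Z (n + 1)).baseChange (Zi (d i))).mkQ) := hflat i n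
      Module.Flat.of_linearEquiv (subQuotTensorEquiv 𝓜 𝔣 Z (Zi (d i)) n).symm
    exact flat_Qk_of_flat_Gk (JJ 𝓜 𝔣 (Zi (d i))) (𝓜.Mod (Zi (d i))) (Zi (d i)) hG
  · have : q ∈ ⋃ i, Groth.Agent.H70.GrFree.stratum (d i) := hunion ▸ Set.mem_univ q
    obtain ⟨i, hi⟩ := Set.mem_iUnion.mp this
    exact ⟨i, hi.1, hi.2⟩

end Sys

end Groth.Agent.H56.GrFlat
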