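import Mathlib
import Groth.Agent.H56.GrFlat.Strata
import Groth.Agent.H1.FlatDescSub

set_option autoImplicit false
set_option maxSynthPendingDepth 3

/-!
# Descent of flatness of all truncations to a finitely generated subalgebra (helper56)
-/

namespace Groth.Agent.H56.GrFlat

universe u

open TensorProduct Groth.Agent.H1.FlatLocus

attribute [local instance] MvPolynomial.algebraMvPolynomial

section TauBC

variable {S : Type u} (S' : Type u) [CommRing S] [CommRing S'] [Algebra S S']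
  {V : ℕ → Type u} [∀ k, AddCommGroup (V k)] [∀ k, Module S (V k)]
  {V' : ℕ → Type u} [∀ k, AddCommGroup (V' k)] [∀ k, Module S (V' k)] [∀ k, Module S' (V' k)]
  [∀ k, IsScalarTower S S' (V' k)] {g : ∀ k, V k →ₗ[S] V' k}

theorem tau_injective_of_isBaseChange {k : ℕ} (h : IsBaseChange S' (g k)) :
    Function.Injective (tau S' g k) := by
  have : ∀ x, tau S' g k x = h.equiv x := by
    intro x
    induction x using TensorProduct.induction_on with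
    | zero => simp
    | tmul c v => rw [tau_tmul, IsBaseChange.equiv_tmul]
    | add x y hx hy => simp only [map_add, hx, hy]
  intro a b hab
  rw [this, this] at hab
  exact h.equiv.injective hab

theorem isBaseChange_of_tau_injective {k : ℕ} (hinj : Function.Injective (tau S' g k))
    (hspan : Submodule.span S' (Set.range (g k)) = ⊤) : IsBaseChange S' (g k) :=
  IsBaseChange.of_equiv (LinearEquiv.ofBijective (tau S' g k) ⟨hinj, tau_surjective S' hspan⟩)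
    (fun x => by
      change tau S' g k (1 ⊗ₜ x) = g k x
      rw [tau_tmul, one_smul])

end TauBC

namespace Sys

variable {Z : Type u} [CommRing Z] [IsNoetherianRing Z] (𝓜 : Model Z) {s : ℕ}
  (𝔣 : Fin s → 𝓜.P Z)

instance finite_Mod (D : Type u) [CommRing D] [Algebra Z D] : Module.Finite (𝓜.P D) (𝓜.Mod D) :=
  inferInstance

instance finite_GG_of_noeth (D : Type u) [CommRing D] [Algebra Z D] [IsNoetherianRing D] (k : ℕ) :
    Module.Finite (𝓜.P D) (GG 𝓜 𝔣 D k) := by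
  have : IsNoetherian (𝓜.P D) (QQ 𝓜 𝔣 D (k + 1)) :=
    isNoetherian_of_isNoetherianRing_of_finite _ _
  infer_instance

/-- **Uniform stability over fields.** -/
theorem exists_stab_field :
    ∃ d : ℕ, ∀ (K : Type u) [Field K] [Algebra Z K], ∀ k, d ≤ k →
      Stab (𝓜.P K) (TT 𝓜 𝔣 Z) (gm 𝓜 𝔣 Z K) k := by
  classical
  obtain ⟨m, dd, hflat, hcover⟩ := exists_strata 𝓜 𝔣
  have h1 : ∀ i : Fin m, ∃ d, ∀ k, d ≤ k →
      Stab (𝓜.P (Zi (dd i))) (TT 𝓜 𝔣 Z) (gm 𝓜 𝔣 Z (Zi (dd i))) k := fun i =>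
    exists_stab (𝓜.P (Zi (dd i))) (T' := TT 𝓜 𝔣 (Zi (dd i))) (TT_comm 𝓜 𝔣 Z)
      (iSup_range_TT 𝓜 𝔣 Z) (TT_gm 𝓜 𝔣 Z (Zi (dd i)))
  choose di hdi using h1
  refine ⟨Finset.univ.sup di, fun K _ _ k hk => ?_⟩
  -- the stratum of `K`
  let q : PrimeSpectrum Z := ⟨RingHom.ker (algebraMap Z K), RingHom.ker_isPrime _⟩
  obtain ⟨i, hle, hnot⟩ := hcover q
  let g₀ : Z ⧸ (dd i).1 →+* K := Ideal.Quotient.lift (dd i).1 (algebraMap Z K)
    (fun a ha => hle ha)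
  have hu : IsUnit (g₀ (Ideal.Quotient.mk (dd i).1 (dd i).2)) := by
    rw [Ideal.Quotient.lift_mk, isUnit_iff_ne_zero]
    exact hnot
  let φ : Zi (dd i) →+* K := IsLocalization.Away.lift (Ideal.Quotient.mk (dd i).1 (dd i).2) hu
  letI : Algebra (Zi (dd i)) K := φ.toAlgebra
  haveI : IsScalarTower Z (Zi (dd i)) K := IsScalarTower.of_algebraMap_eq (fun z => by
    change algebraMap Z K z = φ (algebraMap Z (Zi (dd i)) z)
    rw [IsScalarTower.algebraMap_apply Z (Z ⧸ (dd i).1) (Zi (dd i)), IsLocalization.Away.lift_eq]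
    rfl)
  have hk' : di i ≤ k := le_trans (Finset.le_sup (Finset.mem_univ i)) hk
  haveI := hflat i
  have := stab_of_stab (𝓜.P (Zi (dd i))) (𝓜.P K) (g₂ := gm 𝓜 𝔣 (Zi (dd i)) K) (hdi i k hk')
    (span_range_gm 𝓜 𝔣 Z (Zi (dd i))) (isBaseChange_gm 𝓜 𝔣 (Zi (dd i)) K k)
    (isBaseChange_gm 𝓜 𝔣 (Zi (dd i)) K (k + 1))
  rwa [gcomp_gm] at this

section Descent

variable (A : Type u) [CommRing A] [Algebra Z A]

/-- descent of flatness of a single truncation -/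
theorem exists_fg_flat_QQ (k : ℕ) [Module.Flat A (QQ 𝓜 𝔣 A k)] :
    ∃ C : Subalgebra Z A, C.FG ∧ Module.Flat C (QQ 𝓜 𝔣 C k) := by
  have : Module.FinitePresentation (𝓜.P Z) (QQ 𝓜 𝔣 Z k) := Module.finitePresentation_of_finite _ _
  have : Module.Flat A (A ⊗[Z] QQ 𝓜 𝔣 Z k) :=
    Module.Flat.of_linearEquiv (pushoutEquiv Z A (𝓜.P Z) (𝓜.P A) (isBaseChange_qm 𝓜 𝔣 Z A k))
  obtain ⟨C, hCfg, hC⟩ := Groth.Agent.H1.FlatDescSub.exists_fg_subalgebra_flat_tensor Z A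
    (B₀ := 𝓜.P Z) (QQ 𝓜 𝔣 Z k)
  exact ⟨C, hCfg, Module.Flat.of_linearEquiv
    (pushoutEquiv Z C (𝓜.P Z) (𝓜.P C) (isBaseChange_qm 𝓜 𝔣 Z C k)).symm⟩

omit [IsNoetherianRing Z] in
/-- flatness of truncations persists to bigger subalgebras -/
theorem flat_QQ_of_le {C C' : Subalgebra Z A} (h : C ≤ C') (k : ℕ)
    [Module.Flat C (QQ 𝓜 𝔣 C k)] : Module.Flat C' (QQ 𝓜 𝔣 C' k) := by
  letI := Model.algOfLE h
  haveI := Model.isScalarTower_of_le h
  exact flat_QQ_of_flat 𝓜 𝔣 C C' k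

/-- the graded pieces over `A` are finitely presented when the truncation is flat -/
theorem finitePresentation_GG (k : ℕ) [Module.Flat A (QQ 𝓜 𝔣 A k)] :
    Module.FinitePresentation (𝓜.P A) (GG 𝓜 𝔣 A k) := by
  obtain ⟨C, hCfg, hC⟩ := exists_fg_flat_QQ 𝓜 𝔣 A k
  have : Algebra.FiniteType Z C := (Subalgebra.fg_iff_finiteType C).mp hCfg
  have : IsNoetherianRing C := Algebra.FiniteType.isNoetherianRing Z C
  have : Module.FinitePresentation (𝓜.P C) (GG 𝓜 𝔣 C k) := Module.finitePresentation_of_finite _ _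
  exact FinitePresentation.of_isBaseChange (gm 𝓜 𝔣 C A k) (isBaseChange_gm 𝓜 𝔣 C A k)

omit [IsNoetherianRing Z] in
/-- the residue field of a maximal ideal of `P A`, as a bare `A`-algebra (the `P A`-algebra
structure is deliberately hidden) -/
def ResK (q : Ideal (𝓜.P A)) : Type u := 𝓜.P A ⧸ q

noncomputable instance (q : Ideal (𝓜.P A)) [q.IsMaximal] : Field (ResK 𝓜 A q) :=
  Ideal.Quotient.field q

noncomputable instance (q : Ideal (𝓜.P A)) [q.IsMaximal] : Algebra A (ResK 𝓜 A q) :=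
  (inferInstance : Algebra A (𝓜.P A ⧸ q))

noncomputable instance (q : Ideal (𝓜.P A)) [q.IsMaximal] : Algebra Z (ResK 𝓜 A q) :=
  (inferInstance : Algebra Z (𝓜.P A ⧸ q))

instance (q : Ideal (𝓜.P A)) [q.IsMaximal] : IsScalarTower Z A (ResK 𝓜 A q) :=
  (inferInstance : IsScalarTower Z A (𝓜.P A ⧸ q))

/-- the quotient map to the residue field -/
noncomputable def ResK.mk (q : Ideal (𝓜.P A)) [q.IsMaximal] : 𝓜.P A →ₐ[A] ResK 𝓜 A q :=
  Ideal.Quotient.mkₐ A q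

/-- **Stability over `A`** from stability over the residue fields. -/
theorem stab_of_flat (hA : ∀ k, Module.Flat A (QQ 𝓜 𝔣 A k)) {d : ℕ}
    (hd : ∀ (K : Type u) [Field K] [Algebra Z K], ∀ k, d ≤ k →
      Stab (𝓜.P K) (TT 𝓜 𝔣 Z) (gm 𝓜 𝔣 Z K) k) (k : ℕ) (hk : d ≤ k) :
    Stab (𝓜.P A) (TT 𝓜 𝔣 Z) (gm 𝓜 𝔣 Z A) k := by
  have hT := TT_gm 𝓜 𝔣 Z A
  have := hA
  refine stab_of_forall_maximal (𝓜.P A) hT ?_ ?_
  · -- the kernel is finitely generated
    have := finitePresentation_GG 𝓜 𝔣 A (k + 1)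
    exact Module.FinitePresentation.fg_ker (tau (𝓜.P A) (gm 𝓜 𝔣 Z A) (k + 1))
      (tau_surjective (𝓜.P A) (span_range_gm 𝓜 𝔣 Z A (k + 1)))
  · intro q hq
    have hs := hd (ResK 𝓜 A q) k hk
    rw [← gcomp_gm 𝓜 𝔣 Z A (ResK 𝓜 A q)] at hs
    have : Module.Flat A (GG 𝓜 𝔣 A (k + 1)) :=
      flat_Gk_of_flat_Qk (JJ 𝓜 𝔣 A) (𝓜.Mod A) A hA (k + 1)
    exact smul_top_defect (𝓜.P A) (𝓜.P (ResK 𝓜 A q)) A (ResK 𝓜 A q) q (ResK.mk 𝓜 A q)
      (Ideal.Quotient.mkₐ_surjective A q) (Ideal.Quotient.mkₐ_ker A q) hs hT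
      (span_range_gm 𝓜 𝔣 Z A)
      (isBaseChange_gm 𝓜 𝔣 A (ResK 𝓜 A q) k) (isBaseChange_gm 𝓜 𝔣 A (ResK 𝓜 A q) (k + 1))

end Descent

section C1

variable (A : Type u) [CommRing A] [Algebra Z A]

/-- a finitely generated subalgebra over which the first `n` truncations are flat -/
theorem exists_fg_flat_QQ_le (hA : ∀ k, Module.Flat A (QQ 𝓜 𝔣 A k)) (n : ℕ) :
    ∃ C : Subalgebra Z A, C.FG ∧ ∀ k, k ≤ n → Module.Flat C (QQ 𝓜 𝔣 C k) := by
  have := hA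
  induction n with
  | zero =>
    obtain ⟨C, hCfg, hC⟩ := exists_fg_flat_QQ 𝓜 𝔣 A 0
    refine ⟨C, hCfg, fun k hk => ?_⟩
    obtain rfl : k = 0 := by omega
    exact hC
  | succ n ih =>
    obtain ⟨C, hCfg, hC⟩ := ih
    obtain ⟨C', hC'fg, hC'⟩ := exists_fg_flat_QQ 𝓜 𝔣 A (n + 1)
    refine ⟨C ⊔ C', hCfg.sup hC'fg, fun k hk => ?_⟩
    by_cases hkn : k ≤ n
    · have := hC k hkn
      exact flat_QQ_of_le 𝓜 𝔣 A (le_sup_left : C ≤ C ⊔ C') k
    · obtain rfl : k = n + 1 := by omega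
      exact flat_QQ_of_le 𝓜 𝔣 A (le_sup_right : C' ≤ C ⊔ C') (n + 1)

/-- **Propagation**: all graded pieces over `A` are base changes from `C`. -/
theorem isBaseChange_gm_of_stab (C : Type u) [CommRing C] [Algebra Z C] [Algebra C A]
    [IsScalarTower Z C A] {d : ℕ}
    (hC : ∀ k, k ≤ d → Module.Flat C (QQ 𝓜 𝔣 C k))
    (hstab : ∀ k, d ≤ k → Stab (𝓜.P A) (TT 𝓜 𝔣 Z) (gm 𝓜 𝔣 Z A) k) (k : ℕ) :
    IsBaseChange (𝓜.P A) (gm 𝓜 𝔣 C A k) := by
  refine isBaseChange_of_tau_injective (𝓜.P A) ?_ (span_range_gm 𝓜 𝔣 C A k)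
  have key : ∀ j, Function.Injective (tau (𝓜.P A) (gm 𝓜 𝔣 C A) (d + j)) := by
    intro j
    induction j with
    | zero =>
      have := hC d le_rfl
      exact tau_injective_of_isBaseChange (𝓜.P A) (isBaseChange_gm 𝓜 𝔣 C A d)
    | succ j ih =>
      have hs := hstab (d + j) (Nat.le_add_right d j)
      rw [← gcomp_gm 𝓜 𝔣 Z C A] at hs
      exact tau_injective_succ (𝓜.P C) (𝓜.P A) (TT 𝓜 𝔣 C) hs (TT_gm 𝓜 𝔣 Z C) (span_range_gm 𝓜 𝔣 Z C) ih
  by_cases hkd : k ≤ d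
  · have := hC k hkd
    exact tau_injective_of_isBaseChange (𝓜.P A) (isBaseChange_gm 𝓜 𝔣 C A k)
  · obtain ⟨j, rfl⟩ : ∃ j, k = d + j := ⟨k - d, by omega⟩
    exact key j

end C1

end Sys

end Groth.Agent.H56.GrFlat
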