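import Mathlib
import Groth.Agent.H56.GrFlat.Total

set_option autoImplicit false

/-!
# Unbundled form of the finiteness of the total module (helper56)
-/

namespace Groth.Agent.H56.GrFlat

universe u

open DirectSum

theorem GrMod.exists_E {R : Type u} [CommRing R] {s : ℕ} (𝒢 : GrMod R s) :
    ∃ (E : Type u) (_ : CommRing E) (_ : Algebra R E) (_ : Module E 𝒢.Tot)
      (_ : IsScalarTower R E 𝒢.Tot), Algebra.FiniteType R E ∧ Module.Finite E 𝒢.Tot :=
  ⟨𝒢.E, inferInstance, inferInstance, inferInstance, inferInstance, inferInstance, inferInstance⟩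

/-- For a graded family generated in degree `0` by commuting degree-one operators, with finite
degree-zero part, the total module is a finite module over a commutative `R`-algebra of finite
type (acting compatibly with `R`). -/
theorem exists_finiteType_algebra_total {R : Type u} [CommRing R] {s : ℕ}
    (V : ℕ → Type u) [∀ k, AddCommGroup (V k)] [∀ k, Module R (V k)]
    (T : Fin s → ∀ k, V k →ₗ[R] V (k + 1))
    (comm : ∀ a b k v, T a (k + 1) (T b k v) = T b (k + 1) (T a k v))
    (gen : ∀ k, ⨆ a, LinearMap.range (T a k) = ⊤) [fin0 : Module.Finite R (V 0)] :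
    ∃ (E : Type u) (_ : CommRing E) (_ : Algebra R E) (_ : Module E (⨁ k, V k))
      (_ : IsScalarTower R E (⨁ k, V k)), Algebra.FiniteType R E ∧ Module.Finite E (⨁ k, V k) :=
  GrMod.exists_E { V := V, T := T, comm := comm, gen := gen, fin0 := fin0 }

end Groth.Agent.H56.GrFlat
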