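import Mathlib
import Groth.Agent.H56.GrFlat.Main
import Groth.Agent.H56.GrFlat.TotalE

set_option autoImplicit false
set_option maxSynthPendingDepth 3

/-!
# Theorem C: descent of flatness of all truncations (helper56)
-/

namespace Groth.Agent.H56.GrFlat

universe u

open TensorProduct Groth.Agent.H1.FlatLocus DirectSum

attribute [local instance] MvPolynomial.algebraMvPolynomial

namespace Sys

variable {Z : Type u} [CommRing Z] (𝓜 : Model Z) {s : ℕ} (𝔣 : Fin s → 𝓜.P Z)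

section Step34

variable (C₁ A : Type u) [CommRing C₁] [IsNoetherianRing C₁] [CommRing A] [Algebra Z C₁]
  [Algebra Z A] [Algebra C₁ A] [IsScalarTower Z C₁ A]

/-- **Uniform descent of flatness of the graded pieces**, given that all graded pieces over `A`
are base changes from `C₁`. -/
theorem exists_fg_flat_GG (hBC : ∀ k, IsBaseChange (𝓜.P A) (gm 𝓜 𝔣 C₁ A k))
    (hflat : ∀ k, Module.Flat A (GG 𝓜 𝔣 A k)) :
    ∃ C₂ : Subalgebra C₁ A, C₂.FG ∧ ∀ k, Module.Flat C₂ (GG 𝓜 𝔣 C₂ k) := by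
  classical
  have fin0 : Module.Finite (𝓜.P C₁) (GG 𝓜 𝔣 C₁ 0) := by
    have : IsNoetherian (𝓜.P C₁) (QQ 𝓜 𝔣 C₁ (0 + 1)) :=
      isNoetherian_of_isNoetherianRing_of_finite _ _
    infer_instance
  obtain ⟨E, _, _, _, towPE, ftE, finE⟩ := exists_finiteType_algebra_total (GG 𝓜 𝔣 C₁)
    (TT 𝓜 𝔣 C₁) (TT_comm 𝓜 𝔣 C₁) (iSup_range_TT 𝓜 𝔣 C₁)
  -- `E` as a `C₁`-algebra
  letI algE : Algebra C₁ E := ((algebraMap (𝓜.P C₁) E).comp (algebraMap C₁ (𝓜.P C₁))).toAlgebra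
  have towE : IsScalarTower C₁ (𝓜.P C₁) E := IsScalarTower.of_algebraMap_eq fun _ => rfl
  have ftE' : Algebra.FiniteType C₁ E := Algebra.FiniteType.trans (S := 𝓜.P C₁) inferInstance ftE
  have : Algebra.FinitePresentation C₁ E := Algebra.FinitePresentation.of_finiteType.mp ftE'
  have towTot : IsScalarTower C₁ E (⨁ k, GG 𝓜 𝔣 C₁ k) := ⟨fun c e x => by
    change (algebraMap C₁ E c * e) • x = c • e • x
    rw [mul_smul]
    change algebraMap (𝓜.P C₁) E (algebraMap C₁ (𝓜.P C₁) c) • (e • x) = c • e • x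
    rw [algebraMap_smul, algebraMap_smul]⟩
  have : IsNoetherianRing E := Algebra.FiniteType.isNoetherianRing (𝓜.P C₁) E
  have : Module.FinitePresentation E (⨁ k, GG 𝓜 𝔣 C₁ k) := Module.finitePresentation_of_finite _ _
  -- flatness of the total module over `A`
  have hflat' : ∀ k, Module.Flat A (A ⊗[C₁] GG 𝓜 𝔣 C₁ k) := fun k =>
    haveI := hflat k
    Module.Flat.of_linearEquiv (pushoutEquiv C₁ A (𝓜.P C₁) (𝓜.P A) (hBC k))
  have : Module.Flat A (A ⊗[C₁] (⨁ k, GG 𝓜 𝔣 C₁ k)) :=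
    Module.Flat.of_linearEquiv (TensorProduct.directSumRight C₁ A A (GG 𝓜 𝔣 C₁))
  obtain ⟨C₂, hC₂fg, hC₂⟩ := Groth.Agent.H1.FlatDescSub.exists_fg_subalgebra_flat_tensor C₁ A
    (B₀ := E) (⨁ k, GG 𝓜 𝔣 C₁ k)
  refine ⟨C₂, hC₂fg, fun k => ?_⟩
  -- the summands are flat over `C₂`
  have h1 : Module.Flat C₂ (C₂ ⊗[C₁] GG 𝓜 𝔣 C₁ k) := by
    refine Module.Flat.of_retract (M := C₂ ⊗[C₁] (⨁ k, GG 𝓜 𝔣 C₁ k))
      ((DirectSum.lof C₁ ℕ (GG 𝓜 𝔣 C₁) k).baseChange C₂)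
      ((DirectSum.component C₁ ℕ (GG 𝓜 𝔣 C₁) k).baseChange C₂) ?_
    rw [← LinearMap.baseChange_comp]
    have : (DirectSum.component C₁ ℕ (GG 𝓜 𝔣 C₁) k) ∘ₗ (DirectSum.lof C₁ ℕ (GG 𝓜 𝔣 C₁) k) =
        LinearMap.id := by
      refine LinearMap.ext fun z => ?_
      exact DirectSum.component.lof_self C₁ k z
    rw [this, LinearMap.baseChange_id]
  -- `X = P C₂ ⊗ G_k(C₁)` is flat over `C₂`
  have h2 : Module.Flat C₂ (𝓜.P C₂ ⊗[𝓜.P C₁] GG 𝓜 𝔣 C₁ k) :=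
    Module.Flat.of_linearEquiv
      (Algebra.IsPushout.cancelBaseChange C₁ C₂ (𝓜.P C₁) (𝓜.P C₂) (GG 𝓜 𝔣 C₁ k))
  -- the composite `X → G_k(C₂) → G_k(A)` is a base change
  let τ₂ := tau (𝓜.P C₂) (gm 𝓜 𝔣 C₁ C₂) k
  let h : 𝓜.P C₂ ⊗[𝓜.P C₁] GG 𝓜 𝔣 C₁ k →ₗ[𝓜.P C₂] GG 𝓜 𝔣 A k := (gm 𝓜 𝔣 C₂ A k).comp τ₂
  have hh : IsBaseChange (𝓜.P A) h := by
    refine IsBaseChange.of_comp (TensorProduct.isBaseChange (𝓜.P C₁) (GG 𝓜 𝔣 C₁ k) (𝓜.P C₂)) ?_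
    have : (h.restrictScalars (𝓜.P C₁)) ∘ₗ TensorProduct.mk (𝓜.P C₁) (𝓜.P C₂) (GG 𝓜 𝔣 C₁ k) 1 =
        gm 𝓜 𝔣 C₁ A k := by
      ext z
      simp only [LinearMap.comp_apply, LinearMap.restrictScalars_apply, TensorProduct.mk_apply, h,
        τ₂]
      rw [tau_tmul, one_smul, gm_comp]
    rw [this]
    exact hBC k
  have hinj : Function.Injective h :=
    injective_of_isBaseChange_pushout C₂ A (𝓜.P C₂) (𝓜.P A) hh Subtype.val_injective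
  have hτinj : Function.Injective τ₂ := fun a b hab => hinj (by
    change gm 𝓜 𝔣 C₂ A k (τ₂ a) = gm 𝓜 𝔣 C₂ A k (τ₂ b)
    rw [hab])
  have hτsurj : Function.Surjective τ₂ := tau_surjective (𝓜.P C₂) (span_range_gm 𝓜 𝔣 C₁ C₂ k)
  exact Module.Flat.of_linearEquiv
    ((LinearEquiv.ofBijective τ₂ ⟨hτinj, hτsurj⟩).restrictScalars C₂).symm

end Step34

/-- **Theorem C.** Over a Noetherian base `Z`, if all truncations `Mod A / J^k Mod A` are flat over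
`A`, then the same holds over a `Z`-algebra `C` of finite type mapping to `A`. -/
theorem exists_finiteType_flat_all [IsNoetherianRing Z] (A : Type u) [CommRing A] [Algebra Z A]
    (hA : ∀ k, Module.Flat A (QQ 𝓜 𝔣 A k)) :
    ∃ (C : Type u) (_ : CommRing C) (_ : Algebra Z C) (_ : Algebra C A)
      (_ : IsScalarTower Z C A), Algebra.FiniteType Z C ∧
        ∀ k, Module.Flat C (QQ 𝓜 𝔣 C k) := by
  obtain ⟨d, hd⟩ := exists_stab_field 𝓜 𝔣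
  have hstab := fun k hk => stab_of_flat 𝓜 𝔣 A hA hd k hk
  obtain ⟨C₁, hC₁fg, hC₁⟩ := exists_fg_flat_QQ_le 𝓜 𝔣 A hA d
  have ftC₁ : Algebra.FiniteType Z C₁ := (Subalgebra.fg_iff_finiteType C₁).mp hC₁fg
  have : IsNoetherianRing C₁ := Algebra.FiniteType.isNoetherianRing Z C₁
  have hBC := isBaseChange_gm_of_stab 𝓜 𝔣 A C₁ hC₁ hstab
  have hflatG : ∀ k, Module.Flat A (GG 𝓜 𝔣 A k) :=
    flat_Gk_of_flat_Qk (JJ 𝓜 𝔣 A) (𝓜.Mod A) A hA
  obtain ⟨C₂, hC₂fg, hC₂⟩ := exists_fg_flat_GG 𝓜 𝔣 C₁ A hBC hflatG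
  have ftC₂ : Algebra.FiniteType C₁ C₂ := (Subalgebra.fg_iff_finiteType C₂).mp hC₂fg
  exact ⟨C₂, inferInstance, inferInstance, inferInstance, inferInstance,
    Algebra.FiniteType.trans (S := C₁) ftC₁ ftC₂,
    flat_Qk_of_flat_Gk (JJ 𝓜 𝔣 C₂) (𝓜.Mod C₂) C₂ hC₂⟩

end Sys

end Groth.Agent.H56.GrFlat
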