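import Mathlib
import Groth.Agent.H56.GrFlat.Conv

set_option autoImplicit false
set_option maxSynthPendingDepth 3

/-!
# Transport of truncations and graded pieces (helper56)

* `grEquiv`: `J^k M / J^{k+1} M` (as a quotient of the submodule `J^k M`) is the kernel `Gk`.
* transport of `J`-adic truncations along a semilinear isomorphism over a surjection of rings.
-/

namespace Groth.Agent.H56.GrFlat

universe u

open TensorProduct

section GrForm

variable {S : Type u} [CommRing S] (J : Ideal S) (M : Type u) [AddCommGroup M] [Module S M]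

/-- the map `J^k M → M / J^{k+1} M` -/
noncomputable def grMap (k : ℕ) : ↥(J ^ k • (⊤ : Submodule S M)) →ₗ[S] Qk J M (k + 1) :=
  (Ik J M (k + 1)).mkQ.comp (J ^ k • (⊤ : Submodule S M)).subtype

theorem grMap_mem (k : ℕ) (x : ↥(J ^ k • (⊤ : Submodule S M))) : grMap J M k x ∈ Gk J M k :=
  (mk_mem_Gk_iff J M k x.1).mpr x.2

theorem ker_grMap (k : ℕ) :
    LinearMap.ker (grMap J M k) =
      Submodule.comap (J ^ k • (⊤ : Submodule S M)).subtype (J ^ (k + 1) • ⊤) := by
  ext x
  rw [LinearMap.mem_ker, Submodule.mem_comap]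
  change (Submodule.Quotient.mk x.1 : Qk J M (k + 1)) = 0 ↔ _
  rw [Submodule.Quotient.mk_eq_zero]
  rfl

theorem ker_codRestrict_grMap (k : ℕ) :
    LinearMap.ker ((grMap J M k).codRestrict (Gk J M k) (grMap_mem J M k)) =
      Submodule.comap (J ^ k • (⊤ : Submodule S M)).subtype (J ^ (k + 1) • ⊤) := by
  rw [LinearMap.ker_codRestrict, ker_grMap]

theorem codRestrict_grMap_surjective (k : ℕ) :
    Function.Surjective ((grMap J M k).codRestrict (Gk J M k) (grMap_mem J M k)) := by
  rintro ⟨z, hz⟩
  obtain ⟨x, rfl⟩ := Submodule.Quotient.mk_surjective _ z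
  have hx : x ∈ J ^ k • (⊤ : Submodule S M) := (mk_mem_Gk_iff J M k x).mp hz
  exact ⟨⟨x, hx⟩, rfl⟩

/-- `J^k M / J^{k+1} M ≃ Gk J M k` -/
noncomputable def grEquiv (k : ℕ) :
    (↥(J ^ k • (⊤ : Submodule S M)) ⧸
      Submodule.comap (J ^ k • (⊤ : Submodule S M)).subtype (J ^ (k + 1) • ⊤)) ≃ₗ[S]
      ↥(Gk J M k) :=
  (Submodule.quotEquivOfEq _ _ (ker_codRestrict_grMap J M k).symm).trans
    (LinearMap.quotKerEquivOfSurjective
      ((grMap J M k).codRestrict (Gk J M k) (grMap_mem J M k))
      (codRestrict_grMap_surjective J M k))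

end GrForm

section Semilinear

variable {R P B N M : Type u} [CommRing R] [CommRing P] [CommRing B] [Algebra R P] [Algebra R B]
  [AddCommGroup N] [Module R N] [Module P N] [IsScalarTower R P N]
  [AddCommGroup M] [Module R M] [Module B M] [IsScalarTower R B M]
  (φ : P →ₐ[R] B) (e : N ≃+ M) (he : ∀ (p : P) (x : N), e (p • x) = φ p • e x)

/-- a semilinear isomorphism is linear over the base ring -/
def semiEquiv : N ≃ₗ[R] M :=
  { e with
    map_smul' := fun r x => by
      change e (r • x) = r • e x
      rw [← algebraMap_smul P r x, he, AlgHom.commutes, algebraMap_smul] }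

@[simp] theorem semiEquiv_apply (x : N) : semiEquiv φ e he x = e x := rfl

variable (hφ : Function.Surjective φ) {I : Ideal P} {J : Ideal B} (hIJ : I.map φ = J)

include hφ hIJ in
theorem map_semiEquiv_pow (k : ℕ) :
    ((I ^ k • (⊤ : Submodule P N)).restrictScalars R).map (semiEquiv φ e he).toLinearMap =
      (J ^ k • (⊤ : Submodule B M)).restrictScalars R := by
  have hpow : (I ^ k).map φ = J ^ k := by rw [Ideal.map_pow, hIJ]
  apply le_antisymm
  · rintro _ ⟨x, hx, rfl⟩
    change x ∈ I ^ k • (⊤ : Submodule P N) at hx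
    change e x ∈ J ^ k • (⊤ : Submodule B M)
    refine Submodule.smul_induction_on hx ?_ ?_
    · intro p hp n _
      rw [he]
      exact Submodule.smul_mem_smul (hpow ▸ Ideal.mem_map_of_mem φ hp) Submodule.mem_top
    · intro a b ha hb
      rw [map_add]
      exact Submodule.add_mem _ ha hb
  · intro y hy
    change y ∈ J ^ k • (⊤ : Submodule B M) at hy
    refine Submodule.smul_induction_on hy ?_ ?_
    · intro b hb m _
      rw [← hpow, Ideal.mem_map_iff_of_surjective φ hφ] at hb
      obtain ⟨p, hp, rfl⟩ := hb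
      obtain ⟨n, rfl⟩ := e.surjective m
      refine ⟨p • n, ?_, ?_⟩
      · exact Submodule.smul_mem_smul hp Submodule.mem_top
      · change e (p • n) = _
        rw [he]
    · intro a b ha hb
      exact Submodule.add_mem _ ha hb

/-- transport of the truncations -/
noncomputable def quotSemiEquiv (k : ℕ) :
    (N ⧸ (I ^ k • (⊤ : Submodule P N))) ≃ₗ[R] (M ⧸ (J ^ k • (⊤ : Submodule B M))) :=
  (Submodule.Quotient.restrictScalarsEquiv R (I ^ k • (⊤ : Submodule P N))).symm.trans
    ((Submodule.Quotient.equiv _ _ (semiEquiv φ e he) (map_semiEquiv_pow φ e he hφ hIJ k)).trans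
      (Submodule.Quotient.restrictScalarsEquiv R (J ^ k • (⊤ : Submodule B M))))

end Semilinear

end Groth.Agent.H56.GrFlat
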