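import Mathlib
import Groth.Agent.H56.GrFlat.Transport

set_option autoImplicit false
set_option maxSynthPendingDepth 3

/-!
# Semilinear transport of the graded pieces (helper56)
-/

namespace Groth.Agent.H56.GrFlat

universe u

section Semilinear

variable {R P B N M : Type u} [CommRing R] [CommRing P] [CommRing B] [Algebra R P] [Algebra R B]
  [AddCommGroup N] [Module R N] [Module P N] [IsScalarTower R P N]
  [AddCommGroup M] [Module R M] [Module B M] [IsScalarTower R B M]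
  (φ : P →ₐ[R] B) (e : N ≃+ M) (he : ∀ (p : P) (x : N), e (p • x) = φ p • e x)
  (hφ : Function.Surjective φ) {I : Ideal P} {J : Ideal B} (hIJ : I.map φ = J)

/-- transport of the truncations, in `Qk` form -/
noncomputable def qkSemiEquiv (k : ℕ) : Qk I N k ≃ₗ[R] Qk J M k :=
  quotSemiEquiv φ e he hφ hIJ k

theorem qkSemiEquiv_mk (k : ℕ) (x : N) :
    qkSemiEquiv φ e he hφ hIJ k (Submodule.Quotient.mk x) = Submodule.Quotient.mk (e x) := rfl

theorem qkSemiEquiv_smul (k : ℕ) (p : P) (z : Qk I N k) :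
    qkSemiEquiv φ e he hφ hIJ k (p • z) = φ p • qkSemiEquiv φ e he hφ hIJ k z := by
  obtain ⟨x, rfl⟩ := Submodule.Quotient.mk_surjective _ z
  rw [← Submodule.Quotient.mk_smul, qkSemiEquiv_mk, qkSemiEquiv_mk, he,
    Submodule.Quotient.mk_smul]

theorem piQ_qkSemiEquiv (k : ℕ) (z : Qk I N (k + 1)) :
    piQ J M k (qkSemiEquiv φ e he hφ hIJ (k + 1) z) =
      qkSemiEquiv φ e he hφ hIJ k (piQ I N k z) := by
  obtain ⟨x, rfl⟩ := Submodule.Quotient.mk_surjective _ z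
  rfl

theorem mulQ_qkSemiEquiv {a : P} (ha : a ∈ I) (ha' : φ a ∈ J) (k : ℕ) (z : Qk I N k) :
    mulQ M ha' k (qkSemiEquiv φ e he hφ hIJ k z) =
      qkSemiEquiv φ e he hφ hIJ (k + 1) (mulQ N ha k z) := by
  obtain ⟨x, rfl⟩ := Submodule.Quotient.mk_surjective _ z
  rw [qkSemiEquiv_mk, mulQ_mk, mulQ_mk, qkSemiEquiv_mk, he]

/-- transport of the graded pieces -/
noncomputable def gkSemiEquiv (k : ℕ) : ↥(Gk I N k) ≃+ ↥(Gk J M k) where
  toFun z := ⟨qkSemiEquiv φ e he hφ hIJ (k + 1) z.1, by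
    rw [Gk, LinearMap.mem_ker, piQ_qkSemiEquiv, LinearMap.mem_ker.mp z.2, map_zero]⟩
  invFun w := ⟨(qkSemiEquiv φ e he hφ hIJ (k + 1)).symm w.1, by
    rw [Gk, LinearMap.mem_ker]
    apply (qkSemiEquiv φ e he hφ hIJ k).injective
    rw [← piQ_qkSemiEquiv, LinearEquiv.apply_symm_apply, map_zero]
    exact LinearMap.mem_ker.mp w.2⟩
  left_inv z := Subtype.ext (LinearEquiv.symm_apply_apply _ _)
  right_inv w := Subtype.ext (LinearEquiv.apply_symm_apply _ _)
  map_add' z z' := Subtype.ext (map_add _ _ _)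

theorem gkSemiEquiv_coe (k : ℕ) (z : ↥(Gk I N k)) :
    ((gkSemiEquiv φ e he hφ hIJ k z : ↥(Gk J M k)) : Qk J M (k + 1)) =
      qkSemiEquiv φ e he hφ hIJ (k + 1) z.1 := rfl

theorem gkSemiEquiv_smul (k : ℕ) (p : P) (z : ↥(Gk I N k)) :
    gkSemiEquiv φ e he hφ hIJ k (p • z) = φ p • gkSemiEquiv φ e he hφ hIJ k z := by
  apply Subtype.ext
  rw [gkSemiEquiv_coe, Submodule.coe_smul, Submodule.coe_smul, qkSemiEquiv_smul, gkSemiEquiv_coe]

theorem gkSemiEquiv_Tj {a : P} (ha : a ∈ I) (ha' : φ a ∈ J) (k : ℕ) (z : ↥(Gk I N k)) :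
    gkSemiEquiv φ e he hφ hIJ (k + 1) (Tj N ha k z) =
      Tj M ha' k (gkSemiEquiv φ e he hφ hIJ k z) := by
  apply Subtype.ext
  rw [gkSemiEquiv_coe, Tj_coe, Tj_coe, gkSemiEquiv_coe, mulQ_qkSemiEquiv]

end Semilinear

end Groth.Agent.H56.GrFlat
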