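import Mathlib

set_option autoImplicit false

/-!
# Transfer of finite presentation along a surjection and a semilinear isomorphism (helper56)
-/

namespace Groth.Agent.H56.GrFlat

universe u

open TensorProduct

/-- for a surjective `R → R'`, every `R'`-module is its own base change -/
theorem isBaseChange_id_of_surjective {R R' X : Type*} [CommRing R] [CommRing R'] [Algebra R R']
    [AddCommGroup X] [Module R X] [Module R' X] [IsScalarTower R R' X]
    (h : Function.Surjective (algebraMap R R')) : IsBaseChange R' (LinearMap.id : X →ₗ[R] X) := by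
  have h1 : ∀ z : R' ⊗[R] X, ∃ x : X, z = (1 : R') ⊗ₜ[R] x := by
    intro z
    induction z with
    | zero => exact ⟨0, by simp⟩
    | add a b ha hb =>
      obtain ⟨x, rfl⟩ := ha
      obtain ⟨y, rfl⟩ := hb
      exact ⟨x + y, by rw [TensorProduct.tmul_add]⟩
    | tmul r' x =>
      obtain ⟨r, rfl⟩ := h r'
      exact ⟨r • x, by rw [Algebra.algebraMap_eq_smul_one, TensorProduct.smul_tmul]⟩
  have hbij : Function.Bijective (LinearMap.liftBaseChange R' (LinearMap.id : X →ₗ[R] X)) := by
    constructor
    · intro z w hzw
      obtain ⟨x, rfl⟩ := h1 z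
      obtain ⟨y, rfl⟩ := h1 w
      simp only [LinearMap.liftBaseChange_tmul, LinearMap.id_coe, id_eq, one_smul] at hzw
      rw [hzw]
    · intro x
      exact ⟨1 ⊗ₜ x, by simp⟩
  exact IsBaseChange.of_equiv (LinearEquiv.ofBijective _ hbij) (fun x => by simp)

/-- finite presentation transfers along a surjective ring homomorphism and a semilinear additive
isomorphism -/
theorem finitePresentation_of_semilinear {R R' X X' : Type*} [CommRing R] [CommRing R']
    [AddCommGroup X] [Module R X] [AddCommGroup X'] [Module R' X'] (ψ : R →+* R')
    (hψ : Function.Surjective ψ) (e : X ≃+ X') (he : ∀ (r : R) (x : X), e (r • x) = ψ r • e x)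
    [Module.FinitePresentation R X] : Module.FinitePresentation R' X' := by
  letI : Algebra R R' := ψ.toAlgebra
  letI : Module R X' := Module.compHom X' ψ
  haveI : IsScalarTower R R' X' := IsScalarTower.of_algebraMap_smul fun _ _ => rfl
  let eR : X ≃ₗ[R] X' := { e with map_smul' := he }
  haveI : Module.FinitePresentation R X' := Module.FinitePresentation.of_equiv eR
  exact _root_.FinitePresentation.of_isBaseChange (LinearMap.id : X' →ₗ[R] X')
    (isBaseChange_id_of_surjective hψ)

end Groth.Agent.H56.GrFlat
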