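import Mathlib
import Groth.Agent.H56.GrFlat.Total

set_option autoImplicit false

/-!
# The total module of a graded family as a module over a polynomial ring (helper56)

For `𝒢 : GrMod R s`, the total module `𝒢.Tot = ⨁ V k` is a module over `R[y_1,…,y_s]`, with `y_a`
acting through the operator `T a`.
-/

namespace Groth.Agent.H56.GrFlat

universe u

open DirectSum

namespace GrMod

variable {R : Type u} [CommRing R] {s : ℕ} (𝒢 : GrMod R s)

/-- the evaluation `R[y] → E` -/
noncomputable def polyHom : MvPolynomial (Fin s) R →ₐ[R] 𝒢.E := MvPolynomial.aeval 𝒢.tE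

theorem polyHom_surjective : Function.Surjective 𝒢.polyHom := by
  rw [← AlgHom.range_eq_top, polyHom, MvPolynomial.aeval_range]
  have : Set.range 𝒢.tE = (((↑) : 𝒢.E → Module.End R 𝒢.Tot) ⁻¹' (Set.range 𝒢.Ttot)) := by
    ext e
    constructor
    · rintro ⟨a, rfl⟩
      exact ⟨a, rfl⟩
    · rintro ⟨a, ha⟩
      exact ⟨a, Subtype.ext ha⟩
  rw [this]
  exact Algebra.adjoin_adjoin_coe_preimage

noncomputable instance polyModule : Module (MvPolynomial (Fin s) R) 𝒢.Tot :=
  Module.compHom 𝒢.Tot 𝒢.polyHom.toRingHom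

theorem poly_smul_def (p : MvPolynomial (Fin s) R) (x : 𝒢.Tot) : p • x = 𝒢.polyHom p • x := rfl

@[simp] theorem X_smul (a : Fin s) (x : 𝒢.Tot) :
    (MvPolynomial.X a : MvPolynomial (Fin s) R) • x = 𝒢.Ttot a x := by
  rw [poly_smul_def, polyHom, MvPolynomial.aeval_X, tE_smul]

@[simp] theorem C_smul (r : R) (x : 𝒢.Tot) :
    (MvPolynomial.C r : MvPolynomial (Fin s) R) • x = r • x := by
  rw [poly_smul_def, polyHom, ← MvPolynomial.algebraMap_eq, AlgHom.commutes, algebraMap_E_smul]

instance : IsScalarTower R (MvPolynomial (Fin s) R) 𝒢.Tot :=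
  ⟨fun r p x => by
    rw [Algebra.smul_def, mul_smul, MvPolynomial.algebraMap_eq, C_smul]⟩

/-- an `R`-submodule stable under the operators is stable under `R[y]` -/
theorem poly_smul_mem (N : Submodule R 𝒢.Tot) (hN : ∀ a, ∀ x ∈ N, 𝒢.Ttot a x ∈ N)
    (p : MvPolynomial (Fin s) R) {x : 𝒢.Tot} (hx : x ∈ N) : p • x ∈ N :=
  𝒢.E_apply_mem N hN (𝒢.polyHom p) hx

instance : Module.Finite (MvPolynomial (Fin s) R) 𝒢.Tot := by
  classical
  obtain ⟨gens, hgens⟩ := (Module.Finite.fg_top : (⊤ : Submodule 𝒢.E 𝒢.Tot).FG)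
  refine ⟨⟨gens, ?_⟩⟩
  rw [eq_top_iff]
  rintro x -
  have hx : x ∈ Submodule.span 𝒢.E (gens : Set 𝒢.Tot) := hgens ▸ Submodule.mem_top
  induction hx using Submodule.span_induction with
  | mem x hx => exact Submodule.subset_span hx
  | zero => exact Submodule.zero_mem _
  | add a b _ _ ha hb => exact Submodule.add_mem _ ha hb
  | smul e a _ ha =>
    obtain ⟨p, rfl⟩ := 𝒢.polyHom_surjective e
    rw [← poly_smul_def]
    exact Submodule.smul_mem _ p ha

/-- the part of the total module in degrees `> k` -/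
def above (k : ℕ) : Submodule R 𝒢.Tot where
  carrier := {x | ∀ j, j ≤ k → x j = 0}
  add_mem' := fun hx hy j hj => by rw [DirectSum.add_apply, hx j hj, hy j hj, add_zero]
  zero_mem' := fun j _ => by rw [DirectSum.zero_apply]
  smul_mem' := fun r x hx j hj => by rw [DirectSum.smul_apply, hx j hj, smul_zero]

theorem Ttot_mem_above (k : ℕ) (a : Fin s) (x : 𝒢.Tot) (hx : x ∈ 𝒢.above k) :
    𝒢.Ttot a x ∈ 𝒢.above k := by
  intro j hj
  cases j with
  | zero => exact 𝒢.component_zero_Ttot a x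
  | succ j => rw [component_succ_Ttot, hx j (by omega), map_zero]

theorem lof_succ_mem_above (k : ℕ) (w : 𝒢.V (k + 1)) :
    DirectSum.lof R ℕ 𝒢.V (k + 1) w ∈ 𝒢.above k := by
  classical
  intro j hj
  rw [DirectSum.lof_eq_of, DirectSum.of_eq_of_ne _ _ _ (by omega)]

/-- **Key graded identity**: the degree `k` part of `p • v`, for `v` homogeneous of degree `k`,
is `p(0) • v`. -/
theorem poly_smul_lof_apply (p : MvPolynomial (Fin s) R) (k : ℕ) (v : 𝒢.V k) :
    (p • DirectSum.lof R ℕ 𝒢.V k v) k = MvPolynomial.constantCoeff p • v := by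
  classical
  induction p using MvPolynomial.induction_on with
  | C r =>
    rw [C_smul, MvPolynomial.constantCoeff_C, DirectSum.smul_apply, DirectSum.lof_apply]
  | add p q hp hq =>
    rw [add_smul, DirectSum.add_apply, hp, hq, map_add, add_smul]
  | mul_X p a _ =>
    rw [mul_smul, X_smul, Ttot_lof, map_mul, MvPolynomial.constantCoeff_X, mul_zero, zero_smul]
    exact 𝒢.poly_smul_mem (𝒢.above k) (𝒢.Ttot_mem_above k) p (𝒢.lof_succ_mem_above k _) k le_rfl

end GrMod

end Groth.Agent.H56.GrFlat
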