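import Mathlib
import Groth.Agent.H56.GrFlat.PolyMod
import Groth.Agent.H56.GrFlat.TensorLemmas

set_option autoImplicit false

/-!
# Base change of the total module over the polynomial ring (helper56)
-/

namespace Groth.Agent.H56.GrFlat

universe u

open TensorProduct DirectSum

attribute [local instance] MvPolynomial.algebraMvPolynomial

section PushBC

variable (C D S S' : Type u) [CommRing C] [CommRing D] [CommRing S] [CommRing S']
  [Algebra C D] [Algebra C S] [Algebra C S'] [Algebra D S'] [Algebra S S']
  [IsScalarTower C D S'] [IsScalarTower C S S'] [Algebra.IsPushout C D S S']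

variable {N N' : Type u} [AddCommGroup N] [Module C N] [Module S N] [IsScalarTower C S N]
  [AddCommGroup N'] [Module S N'] [Module S' N'] [IsScalarTower S S' N']
  [Module D N'] [IsScalarTower D S' N'] [Module C N'] [IsScalarTower C D N']
  [IsScalarTower C S N']

/-- a base change along `C → D` which is linear over `S` is a base change along the pushout
`S → S'` -/
theorem isBaseChange_of_isBaseChange_pushout (f : N →ₗ[S] N')
    (hf : IsBaseChange D (f.restrictScalars C)) : IsBaseChange S' f := by
  have key : ∀ z : D ⊗[C] N, LinearMap.liftBaseChange S' f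
      ((Algebra.IsPushout.cancelBaseChange C D S S' N).symm z) = hf.equiv z := by
    intro z
    induction z with
    | zero => simp
    | add x y hx hy => simp only [map_add, hx, hy]
    | tmul d n =>
      rw [Algebra.IsPushout.cancelBaseChange_symm_tmul, LinearMap.liftBaseChange_tmul,
        IsBaseChange.equiv_tmul, algebraMap_smul]
      rfl
  have hbij : Function.Bijective (LinearMap.liftBaseChange S' f) := by
    have : (LinearMap.liftBaseChange S' f : S' ⊗[S] N → N') =
        hf.equiv ∘ (Algebra.IsPushout.cancelBaseChange C D S S' N) := by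
      funext z
      obtain ⟨w, rfl⟩ := (Algebra.IsPushout.cancelBaseChange C D S S' N).symm.surjective z
      simp [key]
    rw [this]
    exact hf.equiv.bijective.comp (Algebra.IsPushout.cancelBaseChange C D S S' N).bijective
  exact IsBaseChange.of_equiv (LinearEquiv.ofBijective _ hbij) (fun x => by simp)

end PushBC


namespace GrMod

variable {R R' : Type u} [CommRing R] [CommRing R'] [Algebra R R'] {s : ℕ}
  (𝒢 : GrMod R s) (𝒢' : GrMod R' s)
  [∀ k, Module R (𝒢'.V k)] [∀ k, IsScalarTower R R' (𝒢'.V k)]
  (γ : ∀ k, 𝒢.V k →ₗ[R] 𝒢'.V k)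

/-- the total map -/
noncomputable def totMap : 𝒢.Tot →ₗ[R] 𝒢'.Tot := DirectSum.lmap γ

theorem totMap_lof (k : ℕ) (v : 𝒢.V k) :
    totMap 𝒢 𝒢' γ (DirectSum.lof R ℕ 𝒢.V k v) = DirectSum.lof R' ℕ 𝒢'.V k (γ k v) := by
  rw [totMap, DirectSum.lmap_lof, DirectSum.lof_eq_of, DirectSum.lof_eq_of]

variable (hγT : ∀ a k v, γ (k + 1) (𝒢.T a k v) = 𝒢'.T a k (γ k v))

include hγT in
theorem totMap_Ttot (a : Fin s) (x : 𝒢.Tot) :
    totMap 𝒢 𝒢' γ (𝒢.Ttot a x) = 𝒢'.Ttot a (totMap 𝒢 𝒢' γ x) := by
  classical
  induction x using DirectSum.induction_on with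
  | zero => simp
  | of k v =>
    rw [← DirectSum.lof_eq_of R, Ttot_lof, totMap_lof, totMap_lof, Ttot_lof, hγT]
  | add x y hx hy => simp only [map_add, hx, hy]

include hγT in
theorem totMap_poly_smul (p : MvPolynomial (Fin s) R) (x : 𝒢.Tot) :
    totMap 𝒢 𝒢' γ (p • x) = MvPolynomial.map (algebraMap R R') p • totMap 𝒢 𝒢' γ x := by
  induction p using MvPolynomial.induction_on generalizing x with
  | C r =>
    rw [C_smul, MvPolynomial.map_C, C_smul, map_smul, algebraMap_smul]
  | add p q hp hq => rw [add_smul, map_add, hp, hq, map_add, add_smul]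
  | mul_X p a hp =>
    rw [mul_smul, X_smul, hp, totMap_Ttot 𝒢 𝒢' γ hγT, map_mul, MvPolynomial.map_X, mul_smul,
      X_smul]

include hγT in
/-- **Base change of finite presentation for total modules.** -/
theorem finitePresentation_tot_of_isBaseChange (hγ : ∀ k, IsBaseChange R' (γ k))
    [Module.FinitePresentation (MvPolynomial (Fin s) R) 𝒢.Tot] :
    Module.FinitePresentation (MvPolynomial (Fin s) R') 𝒢'.Tot := by
  letI : Module (MvPolynomial (Fin s) R) 𝒢'.Tot :=
    Module.compHom _ (algebraMap (MvPolynomial (Fin s) R) (MvPolynomial (Fin s) R'))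
  haveI : IsScalarTower (MvPolynomial (Fin s) R) (MvPolynomial (Fin s) R') 𝒢'.Tot :=
    IsScalarTower.of_algebraMap_smul fun p x => rfl
  haveI : IsScalarTower R (MvPolynomial (Fin s) R) 𝒢'.Tot := by
    refine ⟨fun r p x => ?_⟩
    change MvPolynomial.map (algebraMap R R') (r • p) • x =
      r • (MvPolynomial.map (algebraMap R R') p • x)
    rw [MvPolynomial.smul_eq_C_mul, map_mul, MvPolynomial.map_C, mul_smul, C_smul, algebraMap_smul]
  let Γ : 𝒢.Tot →ₗ[MvPolynomial (Fin s) R] 𝒢'.Tot :=
    { toFun := totMap 𝒢 𝒢' γ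
      map_add' := map_add _
      map_smul' := fun p x => totMap_poly_smul 𝒢 𝒢' γ hγT p x }
  have hΓ : IsBaseChange R' (Γ.restrictScalars R) := by
    have h : IsBaseChange R' (DirectSum.lmap γ) := IsBaseChange.directSum hγ
    exact h
  have := isBaseChange_of_isBaseChange_pushout R R' (MvPolynomial (Fin s) R)
    (MvPolynomial (Fin s) R') Γ hΓ
  exact _root_.FinitePresentation.of_isBaseChange Γ this

end GrMod

end Groth.Agent.H56.GrFlat
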