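import Mathlib
import Groth.Agent.H56.GrFlat.PolyBC
import Groth.Agent.H56.GrFlat.FPTransfer
import Groth.Agent.H56.GrFlat.Family
import Groth.Agent.H56.GrFlat.Gr

set_option autoImplicit false
set_option maxSynthPendingDepth 3

/-!
# The graded module `⨁ J^k M / J^{k+1} M` as a `GrMod`, base change, semilinear transfer (helper56)
-/

namespace Groth.Agent.H56.GrFlat

universe u

open TensorProduct DirectSum

attribute [local instance] MvPolynomial.algebraMvPolynomial

section GrOf

variable {S : Type u} [CommRing S] (J : Ideal S) (M : Type u) [AddCommGroup M] [Module S M]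

theorem Gk_zero : Gk J M 0 = ⊤ := by
  have : Subsingleton (Qk J M 0) := by
    rw [Submodule.Quotient.subsingleton_iff, Ik_zero]
  rw [Gk, LinearMap.ker_eq_top]
  exact LinearMap.ext fun z => Subsingleton.elim _ _

instance finite_Gk_zero [Module.Finite S M] : Module.Finite S (Gk J M 0) := by
  have h : Function.Surjective
      ((LinearMap.id : Qk J M (0 + 1) →ₗ[S] Qk J M (0 + 1)).codRestrict (Gk J M 0)
        (fun z => by rw [Gk_zero]; exact Submodule.mem_top)) := by
    rintro ⟨z, hz⟩
    exact ⟨z, rfl⟩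
  exact Module.Finite.of_surjective _ h

/-- the graded module of `M` along `J = (b)` -/
noncomputable def grOf [Module.Finite S M] {s : ℕ} (b : Fin s → S)
    (hb : J = Ideal.span (Set.range b)) : GrMod S s where
  V k := Gk J M k
  T a k := Tj M (fs_mem J b hb a) k
  comm a a' k v := Tj_comm M _ _ k v
  gen k := iSup_range_Tj J M b hb k
  fin0 := finite_Gk_zero J M

end GrOf

namespace GrMod

variable {R : Type u} [CommRing R] {s : ℕ} (𝒢 : GrMod R s)

/-- base change of a graded family -/
noncomputable def baseChange (R' : Type u) [CommRing R'] [Algebra R R'] : GrMod R' s where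
  V k := R' ⊗[R] 𝒢.V k
  T := That R' 𝒢.T
  comm := by
    intro a b k x
    induction x using TensorProduct.induction_on with
    | zero => simp
    | tmul c v => rw [That_tmul, That_tmul, That_tmul, That_tmul, 𝒢.comm]
    | add x y hx hy => simp only [map_add, hx, hy]
  gen := fun k => iSup_range_That R' (𝒢.gen k)
  fin0 := have := 𝒢.fin0; (inferInstance : Module.Finite R' (R' ⊗[R] 𝒢.V 0))

theorem baseChange_V (R' : Type u) [CommRing R'] [Algebra R R'] (k : ℕ) :
    (𝒢.baseChange R').V k = (R' ⊗[R] 𝒢.V k) := rfl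

/-- the `R`-module structure on the pieces of the base change -/
noncomputable instance baseChangeModule (R' : Type u) [CommRing R'] [Algebra R R'] (k : ℕ) :
    Module R ((𝒢.baseChange R').V k) :=
  (inferInstance : Module R (R' ⊗[R] 𝒢.V k))

instance baseChangeTower (R' : Type u) [CommRing R'] [Algebra R R'] (k : ℕ) :
    IsScalarTower R R' ((𝒢.baseChange R').V k) :=
  (inferInstance : IsScalarTower R R' (R' ⊗[R] 𝒢.V k))

/-- the canonical maps into the base change -/
noncomputable def toBaseChange (R' : Type u) [CommRing R'] [Algebra R R'] (k : ℕ) :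
    𝒢.V k →ₗ[R] (𝒢.baseChange R').V k :=
  (TensorProduct.mk R R' (𝒢.V k) 1 : 𝒢.V k →ₗ[R] R' ⊗[R] 𝒢.V k)

theorem isBaseChange_toBaseChange (R' : Type u) [CommRing R'] [Algebra R R'] (k : ℕ) :
    IsBaseChange R' (𝒢.toBaseChange R' k) :=
  TensorProduct.isBaseChange R (𝒢.V k) R'

theorem toBaseChange_T (R' : Type u) [CommRing R'] [Algebra R R'] (a : Fin s) (k : ℕ)
    (v : 𝒢.V k) :
    𝒢.toBaseChange R' (k + 1) (𝒢.T a k v) = (𝒢.baseChange R').T a k (𝒢.toBaseChange R' k v) :=
  (That_tmul R' 𝒢.T a k 1 v).symm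

/-- finite presentation of the total module is preserved by base change -/
theorem finitePresentation_baseChange (R' : Type u) [CommRing R'] [Algebra R R']
    [Module.FinitePresentation (MvPolynomial (Fin s) R) 𝒢.Tot] :
    Module.FinitePresentation (MvPolynomial (Fin s) R') (𝒢.baseChange R').Tot :=
  finitePresentation_tot_of_isBaseChange 𝒢 (𝒢.baseChange R') (𝒢.toBaseChange R')
    (𝒢.toBaseChange_T R') (𝒢.isBaseChange_toBaseChange R')

/-- finite presentation of the total module is preserved by a semilinear isomorphism over a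
surjective ring homomorphism -/
theorem finitePresentation_tot_of_semilinear {R' : Type u} [CommRing R'] (𝒢' : GrMod R' s)
    (ψ : R →+* R') (hψ : Function.Surjective ψ) (ε : ∀ k, 𝒢.V k ≃+ 𝒢'.V k)
    (hε : ∀ k (r : R) (v : 𝒢.V k), ε k (r • v) = ψ r • ε k v)
    (hεT : ∀ a k v, ε (k + 1) (𝒢.T a k v) = 𝒢'.T a k (ε k v))
    [Module.FinitePresentation (MvPolynomial (Fin s) R) 𝒢.Tot] :
    Module.FinitePresentation (MvPolynomial (Fin s) R') 𝒢'.Tot := by
  letI : Algebra R R' := ψ.toAlgebra
  letI i1 : ∀ k, Module R (𝒢'.V k) := fun k => Module.compHom (𝒢'.V k) ψ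
  haveI i2 : ∀ k, IsScalarTower R R' (𝒢'.V k) := fun k =>
    IsScalarTower.of_algebraMap_smul fun _ _ => rfl
  let εR : ∀ k, 𝒢.V k ≃ₗ[R] 𝒢'.V k := fun k => { ε k with map_smul' := hε k }
  have hbc : ∀ k, IsBaseChange R' (εR k).toLinearMap := by
    intro k
    have h1 : IsBaseChange R' (LinearMap.id : 𝒢'.V k →ₗ[R] 𝒢'.V k) :=
      isBaseChange_id_of_surjective hψ
    have h2 : IsBaseChange R (εR k).toLinearMap := IsBaseChange.ofEquiv (εR k)
    have h3 := h2.comp h1
    convert h3 using 1
    exact LinearMap.ext fun _ => rfl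
  have hT : ∀ a k v, (εR (k + 1)).toLinearMap (𝒢.T a k v) = 𝒢'.T a k ((εR k).toLinearMap v) := hεT
  exact finitePresentation_tot_of_isBaseChange 𝒢 𝒢' (fun k => (εR k).toLinearMap) hT hbc

end GrMod

end Groth.Agent.H56.GrFlat
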