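import Mathlib
import Groth.Agent.H1.FlatLocusExists
import Groth.Agent.H56.GrFlat.Setup

set_option autoImplicit false

/-!
# Models of a finitely presented module together with a finitely generated ideal (helper56)

A variant of helper1's `exists_model` which also descends generators of a finitely generated ideal.
-/

namespace Groth.Agent.H56.GrFlat

universe u

open TensorProduct Groth.Agent.H1.FlatLocus

attribute [local instance] MvPolynomial.algebraMvPolynomial

/-- Every finitely presented module over a finitely presented algebra, together with a finitely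
generated ideal of the algebra, comes from a model over a finitely generated `ℤ`-subalgebra of the
base. -/
theorem exists_model_ideal (R S M : Type u) [CommRing R] [CommRing S] [Algebra R S]
    [Algebra.FinitePresentation R S] [AddCommGroup M] [Module S M]
    [Module.FinitePresentation S M] (J : Ideal S) (hJ : J.FG) :
    ∃ (Z : Subalgebra ℤ R) (_ : Z.FG) (𝓜 : Model Z) (φ : 𝓜.P R →ₐ[R] S) (e : 𝓜.Mod R ≃+ M)
      (s : ℕ) (𝔣 : Fin s → 𝓜.P Z),
      Function.Surjective φ ∧ (∀ (p : 𝓜.P R) (x : 𝓜.Mod R), e (p • x) = φ p • e x) ∧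
        (Sys.JJ 𝓜 𝔣 R).map φ = J := by
  classical
  obtain ⟨r, φ₀, hφ₀surj, hφ₀ker⟩ := Algebra.FinitePresentation.out (R := R) (A := S)
  let P := MvPolynomial (Fin r) R
  let _ : Algebra P S := φ₀.toRingHom.toAlgebra
  let _ : Module P M := Module.compHom M φ₀.toRingHom
  have htower : IsScalarTower P S M := IsScalarTower.of_algebraMap_smul fun p x => rfl
  have hfpS : Module.FinitePresentation P S := by
    refine Module.finitePresentation_of_surjective (Algebra.linearMap P S) hφ₀surj ?_
    have : LinearMap.ker (Algebra.linearMap P S) = (RingHom.ker φ₀.toRingHom) := by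
      ext x
      rfl
    rw [this]
    exact hφ₀ker
  have hfpM : Module.FinitePresentation P M := Module.FinitePresentation.trans P M S
  obtain ⟨n, sgen, hs⟩ := Module.Finite.exists_fin (R := P) (M := M)
  let l : (Fin n → P) →ₗ[P] M := Fintype.linearCombination P sgen
  have hl : Function.Surjective l := by
    rw [← LinearMap.range_eq_top, Fintype.range_linearCombination, hs]
  have hker : (LinearMap.ker l).FG := Module.FinitePresentation.fg_ker l hl
  obtain ⟨m, g, hg⟩ := Submodule.fg_iff_exists_fin_generating_family.mp hker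
  -- generators of `J` and their lifts
  obtain ⟨s, b, hb⟩ := Submodule.fg_iff_exists_fin_generating_family.mp hJ
  have hlift0 : ∀ a : Fin s, ∃ p : P, φ₀ p = b a := fun a => hφ₀surj (b a)
  choose pb hpb using hlift0
  let Sg : Finset R := (Finset.univ.biUnion (fun j : Fin m =>
    Finset.univ.biUnion (fun i : Fin n => (g j i).coeffs))) ∪
    Finset.univ.biUnion (fun a : Fin s => (pb a).coeffs)
  let Z : Subalgebra ℤ R := Algebra.adjoin ℤ (Sg : Set R)
  have hlift : ∀ j i, ∃ f' : MvPolynomial (Fin r) Z,
      MvPolynomial.map (algebraMap Z R) f' = g j i := by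
    intro j i
    refine MvPolynomial.mem_range_map_iff_coeffs_subset.mpr (fun a ha => ?_)
    refine ⟨⟨a, Algebra.subset_adjoin ?_⟩, rfl⟩
    simp only [Sg, Finset.coe_union, Finset.coe_biUnion, Set.mem_union, Set.mem_iUnion]
    exact Or.inl ⟨j, Finset.mem_coe.mpr (Finset.mem_univ j), i,
      Finset.mem_coe.mpr (Finset.mem_univ i), ha⟩
  have hlift' : ∀ a : Fin s, ∃ f' : MvPolynomial (Fin r) Z,
      MvPolynomial.map (algebraMap Z R) f' = pb a := by
    intro a
    refine MvPolynomial.mem_range_map_iff_coeffs_subset.mpr (fun c hc => ?_)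
    refine ⟨⟨c, Algebra.subset_adjoin ?_⟩, rfl⟩
    simp only [Sg, Finset.coe_union, Finset.coe_biUnion, Set.mem_union, Set.mem_iUnion]
    exact Or.inr ⟨a, Finset.mem_coe.mpr (Finset.mem_univ a), hc⟩
  choose g₀ hg₀ using hlift
  choose 𝔣 h𝔣 using hlift'
  let 𝓜 : Model Z := ⟨r, n, m, g₀⟩
  have hgen : 𝓜.gen R = g := by
    funext j
    ext i : 1
    exact hg₀ j i
  have hK : 𝓜.K R = LinearMap.ker l := by
    rw [Model.K, hgen, hg]
  let e : 𝓜.Mod R ≃ₗ[P] M :=
    (Submodule.quotEquivOfEq _ _ hK).trans (l.quotKerEquivOfSurjective hl)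
  refine ⟨Z, ⟨Sg, rfl⟩, 𝓜, φ₀, e.toAddEquiv, s, 𝔣, hφ₀surj, ?_, ?_⟩
  · intro p x
    exact e.map_smul p x
  · rw [Sys.JJ, Ideal.map_span, ← Set.range_comp]
    have : (φ₀ : 𝓜.P R → S) ∘ Sys.fD 𝓜 𝔣 R = b := by
      funext a
      change φ₀ (MvPolynomial.map (algebraMap Z R) (𝔣 a)) = b a
      rw [h𝔣, hpb]
    change Ideal.span (Set.range ((φ₀ : 𝓜.P R → S) ∘ Sys.fD 𝓜 𝔣 R)) = J
    rw [this]
    exact hb

end Groth.Agent.H56.GrFlat
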