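import Mathlib
import Groth.Agent.H56.GrFlat.GrOf
import Groth.Agent.H56.GrFlat.GkSemi
import Groth.Agent.H56.GrFlat.Final
import Groth.Agent.H56.GrFlat.ModelJ

set_option autoImplicit false
set_option maxSynthPendingDepth 3

/-!
# Finite presentation of the associated graded module (helper56)

If `B` is a finitely presented `A`-algebra, `J` a finitely generated ideal, `M` a finitely presented
`B`-module and all graded pieces `J^k M / J^{k+1} M` are flat over `A`, then `⨁ J^k M / J^{k+1} M`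
is a finitely presented module over `B[y_1, …, y_s]` (`y_a` acting through the generator `b_a`).
-/

namespace Groth.Agent.H56.GrFlat

universe u

open TensorProduct DirectSum Groth.Agent.H1.FlatLocus

attribute [local instance] MvPolynomial.algebraMvPolynomial

namespace Sys

variable {Z : Type u} [CommRing Z] (𝓜 : Model Z) {s : ℕ} (𝔣 : Fin s → 𝓜.P Z)

/-- the graded module of the model over `D` -/
noncomputable def gr (D : Type u) [CommRing D] [Algebra Z D] : GrMod (𝓜.P D) s :=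
  grOf (JJ 𝓜 𝔣 D) (𝓜.Mod D) (fD 𝓜 𝔣 D) rfl

section Two

variable (C D : Type u) [CommRing C] [CommRing D] [Algebra Z C] [Algebra Z D] [Algebra C D]
  [IsScalarTower Z C D]

theorem fp_step [Module.FinitePresentation (MvPolynomial (Fin s) (𝓜.P C)) (gr 𝓜 𝔣 C).Tot]
    (hC : ∀ k, Module.Flat C (QQ 𝓜 𝔣 C k)) :
    Module.FinitePresentation (MvPolynomial (Fin s) (𝓜.P D)) (gr 𝓜 𝔣 D).Tot := by
  letI i1 : ∀ k, Module (𝓜.P C) ((gr 𝓜 𝔣 D).V k) := fun k =>
    (inferInstance : Module (𝓜.P C) (GG 𝓜 𝔣 D k))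
  haveI i2 : ∀ k, IsScalarTower (𝓜.P C) (𝓜.P D) ((gr 𝓜 𝔣 D).V k) := fun k =>
    (inferInstance : IsScalarTower (𝓜.P C) (𝓜.P D) (GG 𝓜 𝔣 D k))
  let γ : ∀ k, (gr 𝓜 𝔣 C).V k →ₗ[𝓜.P C] (gr 𝓜 𝔣 D).V k := fun k => gm 𝓜 𝔣 C D k
  have hγT : ∀ a k v, γ (k + 1) ((gr 𝓜 𝔣 C).T a k v) = (gr 𝓜 𝔣 D).T a k (γ k v) :=
    fun a k v => (TT_gm 𝓜 𝔣 C D a k v).symm
  have hγ : ∀ k, IsBaseChange (𝓜.P D) (γ k) := fun k =>
    haveI := hC k
    isBaseChange_gm 𝓜 𝔣 C D k
  exact GrMod.finitePresentation_tot_of_isBaseChange (gr 𝓜 𝔣 C) (gr 𝓜 𝔣 D) γ hγT hγ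

end Two


/-- the total graded module of a model is finitely presented over the polynomial ring when all
truncations are flat over the base -/
theorem finitePresentation_tot [IsNoetherianRing Z] (A : Type u) [CommRing A] [Algebra Z A]
    (hA : ∀ k, Module.Flat A (QQ 𝓜 𝔣 A k)) :
    Module.FinitePresentation (MvPolynomial (Fin s) (𝓜.P A)) (gr 𝓜 𝔣 A).Tot := by
  obtain ⟨C, _, _, _, _, hft, hC⟩ := exists_finiteType_flat_all 𝓜 𝔣 A hA
  have : IsNoetherianRing C := Algebra.FiniteType.isNoetherianRing Z C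
  haveI : Module.FinitePresentation (MvPolynomial (Fin s) (𝓜.P C)) (gr 𝓜 𝔣 C).Tot :=
    Module.finitePresentation_of_finite _ _
  exact fp_step 𝓜 𝔣 C A hC

end Sys

/-- **Finite presentation of the associated graded module.** -/
theorem exists_finitePresentation_grOf {A B : Type u} [CommRing A] [CommRing B] [Algebra A B]
    [Algebra.FinitePresentation A B] (J : Ideal B) (hJ : J.FG)
    (M : Type u) [AddCommGroup M] [Module B M] [Module A M] [IsScalarTower A B M]
    [Module.FinitePresentation B M] (hgr : ∀ k, Module.Flat A (Gk J M k)) :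
    ∃ (s : ℕ) (b : Fin s → B) (hb : J = Ideal.span (Set.range b)),
      Module.FinitePresentation (MvPolynomial (Fin s) B) (grOf J M b hb).Tot := by
  classical
  obtain ⟨Z, hZfg, 𝓜, φ, e, s, 𝔣, hφ, he, hJJ⟩ := exists_model_ideal A B M J hJ
  have : Algebra.FiniteType ℤ Z := (Subalgebra.fg_iff_finiteType Z).mp hZfg
  have : IsNoetherianRing Z := Algebra.FiniteType.isNoetherianRing ℤ Z
  have hQ : ∀ k, Module.Flat A (Qk J M k) := flat_Qk_of_flat_Gk J M A hgr
  have hA : ∀ k, Module.Flat A (Sys.QQ 𝓜 𝔣 A k) := fun k =>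
    have : Module.Flat A (M ⧸ J ^ k • (⊤ : Submodule B M)) := hQ k
    Module.Flat.of_linearEquiv (quotSemiEquiv φ e he hφ hJJ k)
  have hfp := Sys.finitePresentation_tot 𝓜 𝔣 A hA
  have hb : J = Ideal.span (Set.range fun a => φ (Sys.fD 𝓜 𝔣 A a)) := by
    rw [← hJJ, Sys.JJ, Ideal.map_span, ← Set.range_comp]
    rfl
  refine ⟨s, fun a => φ (Sys.fD 𝓜 𝔣 A a), hb, ?_⟩
  exact GrMod.finitePresentation_tot_of_semilinear (Sys.gr 𝓜 𝔣 A) (grOf J M _ hb)
    (φ : 𝓜.P A →+* B) hφ (fun k => gkSemiEquiv φ e he hφ hJJ k)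
    (fun k r v => gkSemiEquiv_smul φ e he hφ hJJ k r v)
    (fun a k v => gkSemiEquiv_Tj φ e he hφ hJJ _ _ k v)

end Groth.Agent.H56.GrFlat
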