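import Mathlib

set_option autoImplicit false

/-!
# Localization commutes with reduction modulo an ideal (helper56)
-/

namespace Groth.Agent.H56.GrFlat

universe u

open TensorProduct

variable {B : Type u} [CommRing B] (J : Ideal B) (q' : Ideal (B ⧸ J)) [q'.IsPrime]

theorem algebraMapSubmonoid_primeCompl_quotient :
    Algebra.algebraMapSubmonoid (B ⧸ J) (q'.comap (Ideal.Quotient.mk J)).primeCompl =
      q'.primeCompl := by
  ext t
  constructor
  · rintro ⟨b, hb, rfl⟩
    exact fun h => hb (Ideal.mem_comap.mpr h)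
  · intro ht
    obtain ⟨b, rfl⟩ := Ideal.Quotient.mk_surjective t
    exact ⟨b, fun h => ht (Ideal.mem_comap.mp h), rfl⟩

variable {X Y : Type u} [AddCommGroup X] [Module B X] [AddCommGroup Y] [Module B Y]

/-- the reduction modulo `J` of a localization at a prime `q ⊇ J` is a localization at `q / J` -/
theorem isLocalizedModule_baseChange_quotient (g : X →ₗ[B] Y)
    (hg : IsLocalizedModule (q'.comap (Ideal.Quotient.mk J)).primeCompl g) :
    IsLocalizedModule q'.primeCompl (g.baseChange (B ⧸ J)) := by
  have h1 : IsLocalizedModule (q'.comap (Ideal.Quotient.mk J)).primeCompl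
      (AlgebraTensorModule.rTensor B (B ⧸ J) g) := inferInstance
  have h2 : (g.baseChange (B ⧸ J)).restrictScalars B =
      (TensorProduct.comm B Y (B ⧸ J)).toLinearMap ∘ₗ
        (AlgebraTensorModule.rTensor B (B ⧸ J) g) ∘ₗ
          (TensorProduct.comm B (B ⧸ J) X).toLinearMap :=
    TensorProduct.ext' (fun c x => by simp)
  have h3 : IsLocalizedModule (q'.comap (Ideal.Quotient.mk J)).primeCompl
      ((g.baseChange (B ⧸ J)).restrictScalars B) := by
    rw [h2]
    infer_instance
  have h4 := IsLocalizedModule.of_restrictScalars (A := B ⧸ J)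
    (q'.comap (Ideal.Quotient.mk J)).primeCompl (g.baseChange (B ⧸ J))
  rwa [algebraMapSubmonoid_primeCompl_quotient] at h4

/-- flatness over `B / J` of the reduction of a localization -/
theorem flat_baseChange_localized_iff (g : X →ₗ[B] Y)
    (hg : IsLocalizedModule (q'.comap (Ideal.Quotient.mk J)).primeCompl g) :
    Module.Flat (B ⧸ J) ((B ⧸ J) ⊗[B] Y) ↔
      Module.Flat (B ⧸ J) (LocalizedModule q'.primeCompl ((B ⧸ J) ⊗[B] X)) := by
  haveI := isLocalizedModule_baseChange_quotient J q' g hg
  exact Module.Flat.equiv_iff (IsLocalizedModule.iso q'.primeCompl (g.baseChange (B ⧸ J))).symm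

end Groth.Agent.H56.GrFlat
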