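import Mathlib
import Groth.Agent.H1.FlatLocusTorAt
import Groth.Agent.H56.GrFlat.Setup

set_option autoImplicit false
set_option maxSynthPendingDepth 3

/-!
# Flatness along `V(J)` from flatness of the truncations, Noetherian case (helper56)
-/

namespace Groth.Agent.H56.GrFlat

universe u

open TensorProduct Groth.Agent.H1.FlatLocus

attribute [local instance] MvPolynomial.algebraMvPolynomial

namespace Sys

variable {Z : Type u} [CommRing Z] (𝓜 : Model Z) {s : ℕ} (𝔣 : Fin s → 𝓜.P Z)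
  (C : Type u) [CommRing C] [Algebra Z C]

/-- `K + J^k F` -/
noncomputable abbrev Kk (k : ℕ) : Submodule (𝓜.P C) (𝓜.F C) :=
  𝓜.K C ⊔ (JJ 𝓜 𝔣 C) ^ k • (⊤ : Submodule (𝓜.P C) (𝓜.F C))

/-- `Q_k = F / (K + J^k F)` -/
noncomputable def quotKkEquiv (k : ℕ) : QQ 𝓜 𝔣 C k ≃ₗ[𝓜.P C] 𝓜.F C ⧸ Kk 𝓜 𝔣 C k :=
  (Submodule.quotEquivOfEq _ _ (by
    rw [Ik, Submodule.map_smul'', Submodule.map_top, Submodule.range_mkQ])).trans
    (Submodule.quotientQuotientEquivQuotientSup (𝓜.K C)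
      ((JJ 𝓜 𝔣 C) ^ k • (⊤ : Submodule (𝓜.P C) (𝓜.F C))))

/-- the presentation form of flatness of `Q_k` -/
theorem mem_smulSub_Kk (k : ℕ) [Module.Flat C (QQ 𝓜 𝔣 C k)] (I : Ideal C) {x : 𝓜.F C}
    (hx : x ∈ Kk 𝓜 𝔣 C k) (hxI : x ∈ smulTop (𝓜.P C) (𝓜.F C) I) :
    x ∈ smulSub (Kk 𝓜 𝔣 C k) I := by
  have hflat : Module.Flat C (𝓜.F C ⧸ Kk 𝓜 𝔣 C k) :=
    Module.Flat.of_linearEquiv ((quotKkEquiv 𝓜 𝔣 C k).restrictScalars C).symm
  have := (tor_presentation_iff (Kk 𝓜 𝔣 C k) I (⊥ : Submonoid (𝓜.P C))).mp (fun z hz => by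
    have hinj : Function.Injective (LinearMap.lTensor (𝓜.F C ⧸ Kk 𝓜 𝔣 C k) I.subtype) :=
      Module.Flat.lTensor_preserves_injective_linearMap I.subtype I.injective_subtype
    have : z = 0 := hinj (by rw [hz, map_zero])
    exact ⟨1, Submonoid.one_mem _, by rw [this, smul_zero]⟩) x hx hxI
  obtain ⟨g, hg, h⟩ := this
  rw [Submonoid.mem_bot] at hg
  rwa [hg, one_smul] at h

/-- **Noetherian case**: if all truncations are flat over `C`, then `Mod C` is flat over `C` at all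
primes containing `J`. -/
theorem flat_localizedModule_of_flat_QQ [IsNoetherianRing C]
    (hC : ∀ k, Module.Flat C (QQ 𝓜 𝔣 C k)) (q : Ideal (𝓜.P C)) [q.IsPrime]
    (hq : JJ 𝓜 𝔣 C ≤ q) :
    Module.Flat C (LocalizedModule q.primeCompl (𝓜.Mod C)) := by
  refine 𝓜.flat_of_torAt C q ?_
  set I : Ideal C := q.comap (algebraMap C (𝓜.P C)) with hI
  intro x hxK hxI
  -- notation
  set I' : Ideal (𝓜.P C) := I.map (algebraMap C (𝓜.P C)) with hI'
  set J := JJ 𝓜 𝔣 C with hJ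
  let IK : Submodule (𝓜.P C) (𝓜.F C) := smulSub (𝓜.K C) I
  let IF : Submodule (𝓜.P C) (𝓜.F C) := smulTop (𝓜.P C) (𝓜.F C) I
  let N : Submodule (𝓜.P C) (𝓜.F C ⧸ IK) := IF.map IK.mkQ
  have hxN : IK.mkQ x ∈ N := ⟨x, hxI, rfl⟩
  -- `x̄ ∈ J^k N` for all `k`
  have hk : ∀ k, IK.mkQ x ∈ J ^ k • N := by
    intro k
    have := hC k
    have h1 : x ∈ smulSub (Kk 𝓜 𝔣 C k) I :=
      mem_smulSub_Kk 𝓜 𝔣 C k I (Submodule.mem_sup_left hxK) hxI
    change x ∈ I' • (𝓜.K C ⊔ J ^ k • (⊤ : Submodule (𝓜.P C) (𝓜.F C))) at h1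
    rw [Submodule.smul_sup] at h1
    obtain ⟨a, ha, b, hb, rfl⟩ := Submodule.mem_sup.mp h1
    have ha' : IK.mkQ a = 0 := (Submodule.Quotient.mk_eq_zero IK).mpr ha
    rw [map_add, ha', zero_add]
    have hb' : b ∈ J ^ k • IF := by
      change b ∈ J ^ k • (I' • (⊤ : Submodule (𝓜.P C) (𝓜.F C)))
      rw [← mul_smul, mul_comm, mul_smul]
      exact hb
    have : IK.mkQ b ∈ (J ^ k • IF).map IK.mkQ := ⟨b, hb', rfl⟩
    rwa [Submodule.map_smul''] at this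
  -- Krull's intersection theorem in `N`
  have : IsNoetherian (𝓜.P C) (𝓜.F C ⧸ IK) := isNoetherian_of_isNoetherianRing_of_finite _ _
  have hmem : (⟨IK.mkQ x, hxN⟩ : N) ∈ (⨅ i : ℕ, J ^ i • ⊤ : Submodule (𝓜.P C) N) := by
    rw [Submodule.mem_iInf]
    intro k
    have h2 := hk k
    have h3 : J ^ k • N = (J ^ k • (⊤ : Submodule (𝓜.P C) N)).map N.subtype := by
      rw [Submodule.map_smul'', Submodule.map_top, Submodule.range_subtype]
    rw [h3] at h2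
    obtain ⟨y, hy, hyx⟩ := h2
    have : y = ⟨IK.mkQ x, hxN⟩ := Subtype.ext hyx
    rwa [this] at hy
  obtain ⟨r, hr⟩ := (Ideal.mem_iInf_smul_pow_eq_bot_iff J _).mp hmem
  refine ⟨1 - (r : 𝓜.P C), ?_, ?_⟩
  · intro hmem'
    have h1 : (1 : 𝓜.P C) ∈ q := by
      have := q.add_mem hmem' (hq r.2)
      rwa [sub_add_cancel] at this
    exact (Ideal.IsPrime.ne_top inferInstance) ((Ideal.eq_top_iff_one q).mpr h1)
  · have h4 : (r : 𝓜.P C) • IK.mkQ x = IK.mkQ x := congrArg Subtype.val hr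
    have h5 : IK.mkQ ((1 - (r : 𝓜.P C)) • x) = 0 := by
      rw [map_smul, sub_smul, one_smul, h4, sub_self]
    exact (Submodule.Quotient.mk_eq_zero IK).mp h5

end Sys

end Groth.Agent.H56.GrFlat
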