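import Mathlib
import Groth.Agent.H1.FlatLocusOpen
import Groth.Agent.H56.GrFlat.PolyMod

set_option autoImplicit false

/-!
# Flatness of the total module at a vertex prime (helper56)

For a graded family `𝒢` over `R` and a prime `𝔮` of `R`, the total module `⨁ V k`, as a module over
`R[y]`, is `R`-flat at the vertex prime `𝔮 + (y)` iff every `V k` is `R`-flat at `𝔮`.
-/

namespace Groth.Agent.H56.GrFlat

universe u

open TensorProduct DirectSum Groth.Agent.H1.FlatLocus

namespace GrMod

variable {R : Type u} [CommRing R] {s : ℕ} (𝒢 : GrMod R s)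

theorem rTensor_component_poly_smul (I : Ideal R) (p : MvPolynomial (Fin s) R) (k : ℕ)
    (w : 𝒢.V k ⊗[R] I) :
    (DirectSum.component R ℕ 𝒢.V k).rTensor I (p • (DirectSum.lof R ℕ 𝒢.V k).rTensor I w) =
      MvPolynomial.constantCoeff p • w := by
  induction w using TensorProduct.induction_on with
  | zero => simp
  | tmul v i =>
    rw [LinearMap.rTensor_tmul, TensorProduct.smul_tmul', LinearMap.rTensor_tmul,
      TensorProduct.smul_tmul']
    congr 1
    exact 𝒢.poly_smul_lof_apply p k v
  | add x y hx hy => simp only [map_add, smul_add, hx, hy]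

variable (𝔮 : Ideal R) [𝔮.IsPrime]

/-- the vertex prime `𝔮 + (y)` -/
noncomputable abbrev vertex : Ideal (MvPolynomial (Fin s) R) :=
  𝔮.comap (MvPolynomial.constantCoeff (σ := Fin s) (R := R))

theorem flat_localizedModule_V_of_vertex
    (h : Module.Flat R (LocalizedModule (vertex (s := s) 𝔮).primeCompl 𝒢.Tot)) (k : ℕ) :
    Module.Flat R (LocalizedModule 𝔮.primeCompl (𝒢.V k)) := by
  rw [flat_localizedModule_iff] at h ⊢
  intro I z hz
  have hz' : LinearMap.lTensor 𝒢.Tot I.subtype ((DirectSum.lof R ℕ 𝒢.V k).rTensor I z) = 0 := by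
    rw [← LinearMap.comp_apply, LinearMap.lTensor_comp_rTensor, ← LinearMap.rTensor_comp_lTensor,
      LinearMap.comp_apply, hz, map_zero]
  obtain ⟨p, hp, hpz⟩ := h I _ hz'
  refine ⟨MvPolynomial.constantCoeff p, fun hmem => hp (Ideal.mem_comap.mpr hmem), ?_⟩
  rw [← 𝒢.rTensor_component_poly_smul I p k z, hpz, map_zero]

theorem directSumLeft_apply (I : Ideal R) (z : 𝒢.Tot ⊗[R] I) (k : ℕ) :
    TensorProduct.directSumLeft R R 𝒢.V I z k =
      (DirectSum.component R ℕ 𝒢.V k).rTensor I z := by
  induction z using TensorProduct.induction_on with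
  | zero => simp
  | tmul m n =>
    rw [TensorProduct.directSumLeft_tmul, LinearMap.rTensor_tmul]
    rfl
  | add x y hx hy => simp only [map_add, DirectSum.add_apply, hx, hy]

theorem flat_localizedModule_vertex_of_V
    (h : ∀ k, Module.Flat R (LocalizedModule 𝔮.primeCompl (𝒢.V k))) :
    Module.Flat R (LocalizedModule (vertex (s := s) 𝔮).primeCompl 𝒢.Tot) := by
  classical
  rw [flat_localizedModule_iff]
  intro I z hz
  have hk : ∀ k, ∃ g : R, g ∉ 𝔮 ∧ g • (TensorProduct.directSumLeft R R 𝒢.V I z k) = 0 := by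
    intro k
    refine (flat_localizedModule_iff (R := R) (S := R) (M := 𝒢.V k) 𝔮).mp (h k) I _ ?_
    rw [directSumLeft_apply, ← LinearMap.comp_apply, LinearMap.lTensor_comp_rTensor,
      ← LinearMap.rTensor_comp_lTensor, LinearMap.comp_apply, hz, map_zero]
  choose g hg hgz using hk
  set w := TensorProduct.directSumLeft R R 𝒢.V I z with hw
  set G : R := ∏ k ∈ DFinsupp.support w, g k with hGdef
  have hG : G ∉ 𝔮 := by
    intro hmem
    obtain ⟨k, _, hk⟩ := (Ideal.IsPrime.prod_mem_iff).mp hmem
    exact hg k hk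
  have hGw : G • w = 0 := by
    apply DFinsupp.ext
    intro k
    rw [DirectSum.smul_apply, DirectSum.zero_apply]
    by_cases hk : k ∈ DFinsupp.support w
    · obtain ⟨c, hc⟩ := Finset.dvd_prod_of_mem g hk
      rw [hGdef, hc, mul_comm, mul_smul, hgz, smul_zero]
    · rw [DFinsupp.notMem_support_iff.mp hk, smul_zero]
  refine ⟨MvPolynomial.C G, ?_, ?_⟩
  · intro hmem
    rw [Ideal.mem_comap, MvPolynomial.constantCoeff_C] at hmem
    exact hG hmem
  · apply (TensorProduct.directSumLeft R R 𝒢.V I).injective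
    rw [map_zero, ← MvPolynomial.algebraMap_eq, algebraMap_smul, map_smul]
    exact hGw

/-- **Vertex criterion.** -/
theorem flat_localizedModule_vertex_iff :
    Module.Flat R (LocalizedModule (vertex (s := s) 𝔮).primeCompl 𝒢.Tot) ↔
      ∀ k, Module.Flat R (LocalizedModule 𝔮.primeCompl (𝒢.V k)) :=
  ⟨fun h k => 𝒢.flat_localizedModule_V_of_vertex 𝔮 h k, 𝒢.flat_localizedModule_vertex_of_V 𝔮⟩

end GrMod

end Groth.Agent.H56.GrFlat
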