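import Mathlib
import Groth.Agent.H1.FlatLocusExists
import Groth.Agent.H56.GrFlat.Vertex

set_option autoImplicit false

/-!
# Openness of the locus where all graded pieces are flat (helper56)
-/

namespace Groth.Agent.H56.GrFlat

universe u

open TensorProduct DirectSum Groth.Agent.H1.FlatLocus

namespace GrMod

variable {R : Type u} [CommRing R] {s : ℕ} (𝒢 : GrMod R s)

/-- If the total module is finitely presented over `R[y]`, the set of primes of `R` at which all
the pieces are flat is open. -/
theorem isOpen_flat_pieces [Module.FinitePresentation (MvPolynomial (Fin s) R) 𝒢.Tot] :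
    IsOpen {𝔮 : PrimeSpectrum R |
      ∀ k, Module.Flat R (LocalizedModule 𝔮.asIdeal.primeCompl (𝒢.V k))} := by
  have hopen : IsOpen (flatLocus R (S := MvPolynomial (Fin s) R) 𝒢.Tot) :=
    isOpen_flatLocus_of_finitePresentation
  have heq : {𝔮 : PrimeSpectrum R |
      ∀ k, Module.Flat R (LocalizedModule 𝔮.asIdeal.primeCompl (𝒢.V k))} =
      PrimeSpectrum.comap (MvPolynomial.constantCoeff (σ := Fin s) (R := R)) ⁻¹'
        (flatLocus R (S := MvPolynomial (Fin s) R) 𝒢.Tot) := by
    ext 𝔮
    exact (𝒢.flat_localizedModule_vertex_iff 𝔮.asIdeal).symm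
  rw [heq]
  exact hopen.preimage (PrimeSpectrum.continuous_comap _)

end GrMod

end Groth.Agent.H56.GrFlat
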