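import Mathlib
import Groth.Agent.H56.GrFlat.Transport

set_option autoImplicit false
set_option maxSynthPendingDepth 3

/-!
# Tensor form of the truncations of the original module (helper56)

For a model `(𝓜, 𝔣)` of `(B₀, J₀, M₀)` over `A₀` (via `φ`, `e`) and an `A₀`-algebra `D`:
`(D ⊗[A₀] M₀) / (D ⊗ J₀^k M₀) ≃ Mod D / J_D^k Mod D`.
-/

namespace Groth.Agent.H56.GrFlat

universe u

open TensorProduct Groth.Agent.H1.FlatLocus

attribute [local instance] MvPolynomial.algebraMvPolynomial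

namespace Sys

variable {Z : Type u} [CommRing Z] (𝓜 : Model Z) {s : ℕ} (𝔣 : Fin s → 𝓜.P Z)
  {A₀ : Type u} [CommRing A₀] [Algebra Z A₀]
  {B₀ : Type u} [CommRing B₀] [Algebra A₀ B₀] {J₀ : Ideal B₀}
  {M₀ : Type u} [AddCommGroup M₀] [Module B₀ M₀] [Module A₀ M₀] [IsScalarTower A₀ B₀ M₀]
  (φ : 𝓜.P A₀ →ₐ[A₀] B₀) (hφ : Function.Surjective φ) (e : 𝓜.Mod A₀ ≃+ M₀)
  (he : ∀ (p : 𝓜.P A₀) (x : 𝓜.Mod A₀), e (p • x) = φ p • e x)
  (hJJ : (JJ 𝓜 𝔣 A₀).map φ = J₀)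
  (D : Type u) [CommRing D] [Algebra A₀ D] [Algebra Z D] [IsScalarTower Z A₀ D]

include hφ hJJ in
theorem map_baseChange_semiEquiv (k : ℕ) :
    ((Pn 𝓜 𝔣 A₀ k).baseChange D).map
      (LinearEquiv.baseChange A₀ D _ _ (semiEquiv φ e he)).toLinearMap =
      ((J₀ ^ k • (⊤ : Submodule B₀ M₀)).restrictScalars A₀).baseChange D := by
  rw [← map_semiEquiv_pow φ e he hφ hJJ k, Groth.Agent.H70.GrFree.baseChange_map,
    LinearEquiv.coe_baseChange]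
  rfl

/-- **Tensor form of the truncations.** -/
noncomputable def tensorFormEquiv (k : ℕ) :
    ((D ⊗[A₀] M₀) ⧸ ((J₀ ^ k • (⊤ : Submodule B₀ M₀)).restrictScalars A₀).baseChange D) ≃ₗ[D]
      QQ 𝓜 𝔣 D k :=
  (Submodule.Quotient.equiv _ _ (LinearEquiv.baseChange A₀ D _ _ (semiEquiv φ e he))
    (map_baseChange_semiEquiv 𝓜 𝔣 φ hφ e he hJJ D k)).symm.trans
    (quotTensorEquiv 𝓜 𝔣 A₀ D k)

end Sys

end Groth.Agent.H56.GrFlat
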